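import Cfsg.Agent.Lib.E7Twist.Twist
import Cfsg.Agent.Lib.H59.Homocyclic.SelfCent

/-!
The twisting element of type E7 on the coroot lattice, and its twisted fixed points.
-/

set_option autoImplicit false

namespace Cfsg.Agent.Lib.E7Twist

open Cfsg.Lie Cfsg.Agent.Lib.Chev Cfsg.Agent.Lib.H59.Homocyclic
open scoped Matrix

/-- The product of reflection matrices of a word. -/
def matW (L : List ℕ) : Matrix (Fin chevE7.rank) (Fin chevE7.rank) ℤ :=
  (L.map (reflMat chevE7 E7.cert)).prod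

theorem iota_matW {R : Type*} [CommRing R] : ∀ {L : List ℕ}, (∀ i ∈ L, i < 7) → ∀ lam : Fin chevE7.rank → R,
    iota chevE7 R ((matW L).map (Int.castRingHom R) *ᵥ lam) = act (wperm checked_E7 L) (iota chevE7 R lam)
  | [], _, lam => by simp [matW, wperm_nil, act_one]
  | i :: L, hL, lam => by
    rw [matW, List.map_cons, List.prod_cons, Matrix.map_mul, ← Matrix.mulVec_mulVec,
      iota_reflMat checked_E7 (hL i List.mem_cons_self), ← matW,
      iota_matW (fun j hj => hL j (List.mem_cons_of_mem _ hj)), ← act_mul]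
    exact congrArg (fun w => act w _) (wperm_cons checked_E7 i L).symm

/-- The matrix of the twisting element on the coroot lattice. -/
def twistMat : Matrix (Fin chevE7.rank) (Fin chevE7.rank) ℤ :=
  Matrix.of fun i j =>
    (([[1, 1, 0, -1, 1, -1, 0], [1, 0, 1, -1, 1, -1, 0], [2, 1, 0, -1, 1, -1, 0], [2, 1, 1, -2, 2, -1, -1],
      [2, 0, 0, -1, 2, -1, -1], [1, 0, 0, -1, 2, -1, 0], [1, 0, 0, -1, 1, 0, 0]] : List (List ℤ)).getD i.val []).getD
        j.val 0

theorem twistWord_lt : ∀ i ∈ twistWord, i < 7 := by decide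

theorem twistMat_eq : twistMat = matW twistWord := by decide +kernel

theorem iota_twistMat {R : Type*} [CommRing R] (lam : Fin chevE7.rank → R) :
    iota chevE7 R (twistMat.map (Int.castRingHom R) *ᵥ lam) =
      act (wperm checked_E7 twistWord) (iota chevE7 R lam) := by
  rw [twistMat_eq]; exact iota_matW twistWord_lt lam

/-- The coordinate functionals in a cyclic basis. -/
def coordMat : Matrix (Fin chevE7.rank) (Fin chevE7.rank) ℤ :=
  Matrix.of fun i j =>
    (([[0, 1, 0, -1, 1, -1, 1], [1, 0, 0, 0, -1, 1, 0], [-1, -1, 1, 1, -1, 0, 0], [-1, 2, 0, -1, 1, -1, 0],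
      [2, 0, -1, 0, 0, 0, 0], [0, -1, 1, 0, 0, 0, 0], [-1, 1, 0, 0, 0, 0, 0]] : List (List ℤ)).getD i.val []).getD
        j.val 0

/-- The cyclic basis. -/
def basisMat : Matrix (Fin chevE7.rank) (Fin chevE7.rank) ℤ :=
  Matrix.of fun i j =>
    (([[0, 0, 0, 0, 1, 1, 1], [0, 0, 0, 0, 1, 1, 2], [0, 0, 0, 0, 1, 2, 2], [0, -1, 0, -1, 2, 2, 4],
      [0, -1, -1, -1, 1, 2, 3], [0, 0, -1, -1, 0, 1, 2], [1, 0, 0, -1, 0, 0, 1]] : List (List ℤ)).getD i.val []).getD
        j.val 0

/-- The companion matrix of `(X⁴ - X² + 1) (X³ + 1)`. -/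
def compMat : Matrix (Fin chevE7.rank) (Fin chevE7.rank) ℤ :=
  Matrix.of fun i j =>
    (([[0, 0, 0, 0, 0, 0, -1], [1, 0, 0, 0, 0, 0, 0], [0, 1, 0, 0, 0, 0, 1], [0, 0, 1, 0, 0, 0, -1],
      [0, 0, 0, 1, 0, 0, -1], [0, 0, 0, 0, 1, 0, 1], [0, 0, 0, 0, 0, 1, 0]] : List (List ℤ)).getD i.val []).getD
        j.val 0

theorem basis_coord : basisMat * coordMat = 1 ∧ coordMat * basisMat = 1 ∧
    coordMat * twistMat = compMat * coordMat := by decide +kernel

/-- The coordinates of a fixed point with last coordinate `1`. -/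
def fixCoord (q : ℤ) : Fin chevE7.rank → ℤ := fun i =>
  [q ^ 6 - q ^ 4 + q ^ 3 + q ^ 2 - q, q ^ 5 - q ^ 3 + q ^ 2 + q - 1, q ^ 4 - q ^ 2 + q + 1, q ^ 3 - q + 1, q ^ 2 - 1,
    q, 1].getD i.val 0

/-- The order of the twisted fixed points. -/
def twistOrder (q : ℕ) : ℕ := (q ^ 4 - q ^ 2 + 1) * (q ^ 3 + 1)

theorem cast_twistOrder (q : ℕ) {R : Type*} [CommRing R] :
    (twistOrder q : R) =
      (q : R) ^ 7 - (q : R) ^ 5 + (q : R) ^ 4 + (q : R) ^ 3 - (q : R) ^ 2 + 1 := by
  have h : q ^ 2 ≤ q ^ 4 := by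
    rcases Nat.eq_zero_or_pos q with rfl | h
    · simp
    · exact Nat.pow_le_pow_right h (by norm_num)
  rw [twistOrder]
  push_cast [Nat.cast_sub h]
  ring

section Fixed

variable {M : ℕ} (q : ℕ)

/-- The standard generator of the twisted fixed points, up to a scalar. -/
def fixVec (M q : ℕ) : Fin chevE7.rank → ZMod M :=
  basisMat.map (Int.castRingHom (ZMod M)) *ᵥ fun i => ((fixCoord q i : ℤ) : ZMod M)

theorem comp_apply {R : Type*} [CommRing R] (x : Fin chevE7.rank → R) (i : Fin chevE7.rank) :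
    (compMat.map (Int.castRingHom R) *ᵥ x) i =
      [-x ⟨6, by decide⟩, x ⟨0, by decide⟩, x ⟨1, by decide⟩ + x ⟨6, by decide⟩,
        x ⟨2, by decide⟩ - x ⟨6, by decide⟩, x ⟨3, by decide⟩ - x ⟨6, by decide⟩,
        x ⟨4, by decide⟩ + x ⟨6, by decide⟩, x ⟨5, by decide⟩].getD i.val 0 := by
  simp only [Matrix.mulVec, dotProduct, compMat, Matrix.map_apply, Matrix.of_apply, Int.coe_castRingHom]
  refine (Fin.sum_univ_seven (fun j : Fin 7 => _)).trans ?_
  obtain ⟨i, hi⟩ := i
  change i < 7 at hi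
  interval_cases i <;> simp [sub_eq_add_neg] <;> rfl

theorem mem_twistFix_iff {lam : Fin chevE7.rank → ZMod M} :
    lam ∈ twistFix twistMat q M ↔ ∃ t : ZMod M, (twistOrder q : ZMod M) * t = 0 ∧ lam = t • fixVec M q := by
  obtain ⟨hBK, hKB, hKC⟩ := basis_coord
  set c := Int.castRingHom (ZMod M)
  set B := basisMat.map c
  set K := coordMat.map c
  have hBK' : B * K = 1 := by rw [← Matrix.map_mul, hBK, Matrix.map_one _ (map_zero _) (map_one _)]
  have hKB' : K * B = 1 := by rw [← Matrix.map_mul, hKB, Matrix.map_one _ (map_zero _) (map_one _)]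
  have hKC' : K * twistMat.map c = compMat.map c * K := by rw [← Matrix.map_mul, hKC, Matrix.map_mul]
  rw [mem_twistFix]
  set y := K *ᵥ lam with hy
  have key : twistMat.map c *ᵥ lam = (q : ZMod M) • lam ↔ compMat.map c *ᵥ y = (q : ZMod M) • y := by
    constructor
    · intro h
      rw [hy, Matrix.mulVec_mulVec, ← hKC', ← Matrix.mulVec_mulVec, h, Matrix.mulVec_smul]
    · intro h
      rw [hy, Matrix.mulVec_mulVec, ← hKC', ← Matrix.mulVec_mulVec, ← Matrix.mulVec_smul] at h
      have := congrArg (B *ᵥ ·) h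
      simpa [Matrix.mulVec_mulVec, ← Matrix.mul_assoc, hBK'] using this
  rw [key]
  have hlam : ∀ v, (lam = B *ᵥ v ↔ y = v) := fun v =>
    ⟨fun h => by rw [hy, h, Matrix.mulVec_mulVec, hKB', Matrix.one_mulVec],
     fun h => by rw [← h, hy, Matrix.mulVec_mulVec, hBK', Matrix.one_mulVec]⟩
  constructor
  · intro h
    have e0 := (comp_apply y ⟨0, by decide⟩).symm.trans (congrFun h ⟨0, by decide⟩)
    have e1 := (comp_apply y ⟨1, by decide⟩).symm.trans (congrFun h ⟨1, by decide⟩)
    have e2 := (comp_apply y ⟨2, by decide⟩).symm.trans (congrFun h ⟨2, by decide⟩)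
    have e3 := (comp_apply y ⟨3, by decide⟩).symm.trans (congrFun h ⟨3, by decide⟩)
    have e4 := (comp_apply y ⟨4, by decide⟩).symm.trans (congrFun h ⟨4, by decide⟩)
    have e5 := (comp_apply y ⟨5, by decide⟩).symm.trans (congrFun h ⟨5, by decide⟩)
    have e6 := (comp_apply y ⟨6, by decide⟩).symm.trans (congrFun h ⟨6, by decide⟩)
    simp only [List.getD_cons_zero, List.getD_cons_succ, Pi.smul_apply, smul_eq_mul] at e0 e1 e2 e3 e4 e5 e6
    set t := y ⟨6, by decide⟩ with ht
    set Q := (q : ZMod M)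
    have h5 : y ⟨5, by decide⟩ = Q * t := by linear_combination e6
    have h4 : y ⟨4, by decide⟩ = (Q ^ 2 - 1) * t := by linear_combination e5 + Q * h5
    have h3 : y ⟨3, by decide⟩ = (Q ^ 3 - Q + 1) * t := by linear_combination e4 + Q * h4
    have h2 : y ⟨2, by decide⟩ = (Q ^ 4 - Q ^ 2 + Q + 1) * t := by linear_combination e3 + Q * h3
    have h1 : y ⟨1, by decide⟩ = (Q ^ 5 - Q ^ 3 + Q ^ 2 + Q - 1) * t := by linear_combination e2 + Q * h2
    have h0 : y ⟨0, by decide⟩ = (Q ^ 6 - Q ^ 4 + Q ^ 3 + Q ^ 2 - Q) * t := by linear_combination e1 + Q * h1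
    refine ⟨t, ?_, ?_⟩
    · rw [cast_twistOrder]
      linear_combination -e0 - Q * h0
    · rw [fixVec, ← Matrix.mulVec_smul, hlam]
      funext i
      obtain ⟨i, hi⟩ := i
      simp only [fixCoord, Pi.smul_apply, smul_eq_mul]
      change i < 7 at hi
      interval_cases i
      · push_cast [h0]; simp [Q]; ring
      · push_cast [h1]; simp [Q]; ring
      · push_cast [h2]; simp [Q]; ring
      · push_cast [h3]; simp [Q]; ring
      · push_cast [h4]; simp [Q]; ring
      · push_cast [h5]; simp [Q]; ring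
      · simp [ht]
  · rintro ⟨t, ht, e⟩
    rw [fixVec, ← Matrix.mulVec_smul, hlam] at e
    rw [e]
    rw [cast_twistOrder] at ht
    funext i
    rw [comp_apply]
    obtain ⟨i, hi⟩ := i
    simp only [fixCoord, Pi.smul_apply, smul_eq_mul]
    change i < 7 at hi
    interval_cases i <;>
      simp only [List.getD_cons_zero, List.getD_cons_succ] <;> push_cast
    · linear_combination -ht
    all_goals ring

end Fixed

section Kernel

/-- Twice the inverse of the Cartan matrix. -/
def adjMat : Matrix (Fin chevE7.rank) (Fin chevE7.rank) ℤ :=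
  Matrix.of fun i j =>
    (([[4, 4, 6, 8, 6, 4, 2], [4, 7, 8, 12, 9, 6, 3], [6, 8, 12, 16, 12, 8, 4], [8, 12, 16, 24, 18, 12, 6],
      [6, 9, 12, 18, 15, 10, 5], [4, 6, 8, 12, 10, 8, 4], [2, 3, 4, 6, 5, 4, 3]] : List (List ℤ)).getD i.val []).getD
        j.val 0

theorem adjMat_ok : cmMat chevE7 E7.cert * adjMat = 2 := by decide +kernel

variable {R : Type*} [CommRing R]

theorem two_smul_of_iota {u : Fin chevE7.rank → R} (h : iota chevE7 R u = 0) : (2 : R) • u = 0 := by
  have e : u ᵥ* (cmMat chevE7 E7.cert).map (Int.castRingHom R) = 0 := by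
    funext j
    have := congrFun h ⟨chevE7.simple j.val, checked_E7.simple_lt j.2⟩
    rw [iota_apply, Pi.zero_apply] at this
    rw [Pi.zero_apply, ← this]
    simp only [Matrix.vecMul, dotProduct, Matrix.map_apply, cmMat, Matrix.of_apply]
    exact Finset.sum_congr rfl fun i _ => by rw [checked_E7.cm_eq j.2 i.2, mul_comm]; rfl
  have h2 : (2 : Matrix (Fin chevE7.rank) (Fin chevE7.rank) ℤ).map (Int.castRingHom R) =
      (2 : Matrix (Fin chevE7.rank) (Fin chevE7.rank) R) := by
    show (Int.castRingHom R).mapMatrix 2 = _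
    exact map_ofNat _ 2
  calc (2 : R) • u = u ᵥ* (2 : Matrix (Fin chevE7.rank) (Fin chevE7.rank) R) := by
        rw [← Matrix.diagonal_ofNat]; funext i; simp [Matrix.vecMul_diagonal, mul_comm]
    _ = u ᵥ* ((cmMat chevE7 E7.cert).map (Int.castRingHom R) * adjMat.map (Int.castRingHom R)) := by
        rw [← Matrix.map_mul, adjMat_ok, h2]
    _ = 0 := by rw [← Matrix.vecMul_vecMul, e, Matrix.zero_vecMul]

end Kernel

section Gen

variable {M q : ℕ}

/-- A generator of the twisted fixed points. -/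
def genVec (M q : ℕ) : Fin chevE7.rank → ZMod M := ((M / twistOrder q : ℕ) : ZMod M) • fixVec M q

theorem nsmul_genVec (n : ℕ) : n • genVec M q = ((n * (M / twistOrder q) : ℕ) : ZMod M) • fixVec M q := by
  rw [genVec, ← Nat.cast_smul_eq_nsmul (ZMod M), smul_smul, ← Nat.cast_mul]

theorem genVec_mem [NeZero M] (hN : twistOrder q ∣ M) : genVec M q ∈ twistFix twistMat q M := by
  rw [mem_twistFix_iff]
  refine ⟨_, ?_, rfl⟩
  rw [← Nat.cast_mul, Nat.mul_div_cancel' hN, ZMod.natCast_self]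

theorem twistOrder_pos [NeZero M] (hN : twistOrder q ∣ M) : 0 < twistOrder q :=
  Nat.pos_of_dvd_of_pos hN (NeZero.pos M)

theorem exists_nsmul_genVec [NeZero M] (hN : twistOrder q ∣ M) {lam : Fin chevE7.rank → ZMod M}
    (h : lam ∈ twistFix twistMat q M) : ∃ n : ℕ, lam = n • genVec M q := by
  obtain ⟨t, ht, rfl⟩ := (mem_twistFix_iff q).1 h
  rw [← ZMod.natCast_zmod_val t, ← Nat.cast_mul, ZMod.natCast_eq_zero_iff] at ht
  have hN0 := twistOrder_pos hN
  obtain ⟨c, hc⟩ := hN
  obtain ⟨k, hk⟩ := Nat.dvd_of_mul_dvd_mul_left hN0 ((dvd_of_eq hc.symm).trans ht)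
  refine ⟨k, ?_⟩
  have hdiv : M / twistOrder q = c := by rw [hc, Nat.mul_div_cancel_left _ hN0]
  rw [nsmul_genVec, hdiv, mul_comm k c, ← hk, ZMod.natCast_zmod_val]

theorem twistOrder_dvd_of_nsmul [NeZero M] (hN : twistOrder q ∣ M) {n : ℕ} (h : n • genVec M q = 0) :
    twistOrder q ∣ n := by
  set c := Int.castRingHom (ZMod M)
  rw [nsmul_genVec, fixVec, ← Matrix.mulVec_smul] at h
  have h1 := congrArg (coordMat.map c *ᵥ ·) h
  have hKB : coordMat.map c * basisMat.map (Int.castRingHom (ZMod M)) = 1 := by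
    rw [← Matrix.map_mul, basis_coord.2.1, Matrix.map_one _ (map_zero _) (map_one _)]
  simp only [Matrix.mulVec_zero, Matrix.mulVec_mulVec] at h1
  rw [hKB, Matrix.one_mulVec] at h1
  have h2 := congrFun h1 ⟨6, by decide⟩
  replace h2 : ((n * (M / twistOrder q) : ℕ) : ZMod M) = 0 := by simpa [fixCoord] using h2
  rw [ZMod.natCast_eq_zero_iff] at h2
  have hN0 := twistOrder_pos hN
  obtain ⟨d, hd⟩ := hN
  have hd0 : 0 < d := Nat.pos_of_ne_zero fun h0 => NeZero.ne M (by rw [hd, h0, mul_zero])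
  have hdiv : M / twistOrder q = d := by rw [hd, Nat.mul_div_cancel_left _ hN0]
  rw [hdiv] at h2
  exact Nat.dvd_of_mul_dvd_mul_right hd0 ((dvd_of_eq hd.symm).trans h2)

/-- The values of the roots on a fixed point with last coordinate `1`, as polynomials in `q`. -/
def rootVal (s : ℕ) (q : ℤ) : ℤ :=
  ∑ i : Fin chevE7.rank, chevE7.cartan i.val s * ∑ j : Fin chevE7.rank, basisMat i j * fixCoord q j

theorem iota_fixVec (s : Fin chevE7.nroots) : iota chevE7 (ZMod M) (fixVec M q) s = (rootVal s.val q : ℤ) := by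
  rw [iota_apply, rootVal]
  push_cast
  rfl

theorem rootVal_even : ∀ s : Fin chevE7.nroots, ((rootVal s.val 1 : ℤ) : ZMod 2) = 0 := by decide +kernel

theorem even_rootVal (hq : q % 2 = 1) (s : Fin chevE7.nroots) : (2 : ℤ) ∣ rootVal s.val q := by
  refine (ZMod.intCast_zmod_eq_zero_iff_dvd _ 2).1 ?_
  have hq1 : (q : ZMod 2) = 1 := by
    rw [← ZMod.natCast_mod, hq, Nat.cast_one]
  rw [← rootVal_even s, rootVal, rootVal]
  push_cast
  refine Finset.sum_congr rfl fun i _ => ?_
  congr 1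
  refine Finset.sum_congr rfl fun j _ => ?_
  congr 1
  obtain ⟨j, hj⟩ := j
  change j < 7 at hj
  interval_cases j <;> simp [fixCoord, hq1] <;> norm_num

theorem iota_nsmul_genVec [NeZero M] (hq : 1 ≤ q) (hN : twistOrder q ∣ M) (n : ℕ) :
    iota chevE7 (ZMod M) (n • genVec M q) = 0 ↔ twistOrder q / Nat.gcd 2 (q - 1) ∣ n := by
  rcases Nat.mod_two_eq_zero_or_one q with h0 | h1
  · have hd : Nat.gcd 2 (q - 1) = 1 := by
      rw [Nat.gcd_rec, show (q - 1) % 2 = 1 by omega]; rfl
    rw [hd, Nat.div_one]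
    constructor
    · intro h
      have h2 : (2 * n) • genVec M q = 0 := by
        rw [mul_smul, ← Nat.cast_smul_eq_nsmul (ZMod M) 2]
        exact two_smul_of_iota h
      refine Nat.Coprime.dvd_of_dvd_mul_left ?_ (twistOrder_dvd_of_nsmul hN h2)
      rw [Nat.coprime_comm, Nat.prime_two.coprime_iff_not_dvd]
      have : (twistOrder q : ZMod 2) = 1 := by
        rw [cast_twistOrder, show (q : ZMod 2) = 0 from (ZMod.natCast_eq_zero_iff _ _).2 (by omega)]
        simp
      intro hdvd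
      rw [(ZMod.natCast_eq_zero_iff _ _).2 hdvd] at this
      exact zero_ne_one this
    · rintro ⟨k, rfl⟩
      rw [nsmul_genVec, mul_comm (twistOrder q) k, mul_assoc, Nat.mul_div_cancel' hN]
      simp
  · have hd : Nat.gcd 2 (q - 1) = 2 := Nat.gcd_eq_left (by omega)
    rw [hd]
    have h2N : 2 ∣ twistOrder q := by
      rw [← ZMod.natCast_eq_zero_iff, cast_twistOrder,
        show (q : ZMod 2) = 1 by rw [← ZMod.natCast_mod, h1, Nat.cast_one]]
      decide
    constructor
    · intro h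
      have h2 : (2 * n) • genVec M q = 0 := by
        rw [mul_smul, ← Nat.cast_smul_eq_nsmul (ZMod M) 2]
        exact two_smul_of_iota h
      have h3 := twistOrder_dvd_of_nsmul hN h2
      obtain ⟨c, hc⟩ := h2N
      rw [hc] at h3 ⊢
      rw [Nat.mul_div_cancel_left _ (by norm_num)]
      exact Nat.dvd_of_mul_dvd_mul_left (by norm_num) h3
    · rintro ⟨k, rfl⟩
      funext s
      obtain ⟨e, he⟩ := even_rootVal h1 s
      rw [nsmul_genVec, map_smul, Pi.smul_apply, iota_fixVec, he, smul_eq_mul, Pi.zero_apply]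
      have hz : ((twistOrder q / 2 * k * (M / twistOrder q) * 2 : ℕ) : ZMod M) = 0 := by
        rw [show twistOrder q / 2 * k * (M / twistOrder q) * 2 = k * ((twistOrder q / 2 * 2) * (M / twistOrder q)) by ring,
          Nat.div_mul_cancel h2N, Nat.mul_div_cancel' hN]
        simp
      push_cast
      rw [← mul_assoc]
      push_cast at hz
      rw [hz, zero_mul]

end Gen

end Cfsg.Agent.Lib.E7Twist
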