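import Cfsg.Agent.Lib.E6Twist.Lang

/-!
Pairs of root elements of the types E6 and E7 for the subsystem of roots without the last fundamental root, and the
image in the group of type E7 of an element of the group of type E6 with given Frobenius quotient.
-/

set_option autoImplicit false

namespace Cfsg.Agent.Lib.E7Twist

open Cfsg.Lie Cfsg.Agent.Lib.Chev Cfsg.Agent.Lib.ChevField
open Cfsg.Agent.Lib.Schur Cfsg.Agent.Lib.Schur.ChevLift

universe u v

/-- The roots of type E7 corresponding to those of type E6. -/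
def subTab : List ℕ :=
  [
    6, 10, 13, 15, 16, 19, 21, 22, 24, 25, 26, 28, 29, 30, 31, 32, 35, 37,
    38, 40, 41, 42, 44, 45, 46, 47, 49, 50, 51, 52, 54, 55, 56, 58, 59, 61,
    64, 66, 67, 69, 70, 71, 73, 74, 75, 76, 78, 79, 80, 81, 83, 84, 85, 87,
    88, 90, 93, 94, 95, 96, 97, 99, 100, 101, 103, 104, 106, 109, 110, 112, 115, 119]

/-- The root of type E7 of a root of type E6. -/
def sub (r : ℕ) : ℕ := subTab.getD r 0

theorem sub_ok : ∀ r : Fin 72, sub r.val < 126 ∧ sub (ng chevE6 r.val) = ng chevE7 (sub r.val) ∧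
    ∀ s : Fin 72, sub r.val = sub s.val → r = s := by decide +kernel

theorem sub_simple : ∀ i : Fin 6, sub (chevE6.simple i.val) = chevE7.simple i.val := by decide +kernel

theorem sub_refl : ∀ i : Fin 6, ∀ s : Fin 72,
    sub (refl E6.cert i.val s.val) = refl E7.cert i.val (sub s.val) ∧
      eta E6.cert i.val s.val = eta E7.cert i.val (sub s.val) ∧
      chevE6.cartan i.val s.val = chevE7.cartan i.val (sub s.val) := by decide +kernel

theorem sub_comm : ((List.range 72).all fun r => (List.range 72).all fun s =>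
    (cTerms E7.cert (sub r) (sub s)) == (cTerms E6.cert r s).map fun c => (sub c.1, c.2)) = true := by decide +kernel

theorem etaS_E6' : etaSimpleOK chevE6 E6.cert = true := by decide +kernel

/-- Pairs of matrices. -/
abbrev Pairs (K : Type v) [Field K] := GL chevE6.Idx K × GL chevE7.Idx K

/-- The pairs of root elements. -/
def pairX (K : Type v) [Field K] (r : ℕ) (t : K) : Pairs K :=
  if hr : r < chevE6.nroots then
    (xGL checked_E6 K hr t, xGL checked_E7 K (show sub r < chevE7.nroots from (sub_ok ⟨r, hr⟩).1) t)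
  else 1

variable {K : Type v} [Field K]

theorem pairX_fst {r : ℕ} (hr : r < 72) (t : K) :
    (((pairX K r t).1 : GL chevE6.Idx K) : Matrix chevE6.Idx chevE6.Idx K) = chevE6.x K r t := by
  rw [pairX, dif_pos (show r < chevE6.nroots from hr)]; rfl

theorem pairX_snd {r : ℕ} (hr : r < 72) (t : K) :
    (((pairX K r t).2 : GL chevE7.Idx K) : Matrix chevE7.Idx chevE7.Idx K) = chevE7.x K (sub r) t := by
  rw [pairX, dif_pos (show r < chevE6.nroots from hr)]; rfl

theorem word_fst : ∀ w : List (ℕ × K), (∀ x ∈ w, x.1 < 72) →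
    (((wordX (pairX K) w).1 : GL chevE6.Idx K) : Matrix chevE6.Idx chevE6.Idx K) = chevE6.wordMat K w
  | [], _ => by simp [wordX, ChevalleyDatum.wordMat]
  | x :: w, hw => by
    have ih := word_fst w fun a ha => hw a (List.mem_cons_of_mem _ ha)
    simp only [wordX, ChevalleyDatum.wordMat, List.map_cons, List.prod_cons, Prod.fst_mul, Units.val_mul] at ih ⊢
    rw [pairX_fst (hw x List.mem_cons_self), ih]

theorem word_snd : ∀ w : List (ℕ × K), (∀ x ∈ w, x.1 < 72) →
    (((wordX (pairX K) w).2 : GL chevE7.Idx K) : Matrix chevE7.Idx chevE7.Idx K) =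
      chevE7.wordMat K (w.map fun x => (sub x.1, x.2))
  | [], _ => by simp [wordX, ChevalleyDatum.wordMat]
  | x :: w, hw => by
    have ih := word_snd w fun a ha => hw a (List.mem_cons_of_mem _ ha)
    simp only [wordX, ChevalleyDatum.wordMat, List.map_cons, List.prod_cons, Prod.snd_mul, Units.val_mul] at ih ⊢
    rw [pairX_snd (hw x List.mem_cons_self), ih]

theorem nX_snd {i : ℕ} (hi : i < 6) (c : K) :
    (((nX chevE6 (pairX K) i c).2 : GL chevE7.Idx K) : Matrix chevE7.Idx chevE7.Idx K) =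
      chevE7.nMat K (chevE7.simple i) c := by
  have hp : chevE6.simple i < 72 := checked_E6.simple_lt (show i < chevE6.rank from hi)
  have ho : ng chevE6 (chevE6.simple i) < 72 := Checked.ng_lt hp
  have hs : sub (chevE6.simple i) = chevE7.simple i := sub_simple ⟨i, hi⟩
  have hn : sub (ng chevE6 (chevE6.simple i)) = ng chevE7 (chevE7.simple i) := by
    rw [← hs]; exact (sub_ok ⟨_, hp⟩).2.1
  rw [nX, word_snd _ (by simp [hp, ho]), ChevalleyDatum.nMat, ChevalleyDatum.nWord,
    checked_E7.neg_eq (checked_E7.simple_lt (show i < chevE7.rank by change i < 7; omega))]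
  simp only [List.map_cons, List.map_nil, hs, hn]

theorem rootLift_pair :
    RootLift chevE6 E6.cert (MonoidHom.fst (GL chevE6.Idx K) (GL chevE7.Idx K)) (pairX K) where
  rooted := ⟨checked_E6, descent_E6⟩
  eta_simple := etaSimple_of_ok etaS_E6'
  map_X r hr t := pairX_fst hr t
  add r hr t u := by
    refine Prod.ext (Units.ext ?_) (Units.ext ?_)
    · rw [Prod.fst_mul, Units.val_mul, pairX_fst hr, pairX_fst hr, pairX_fst hr, checked_E6.x_add hr]
    · rw [Prod.snd_mul, Units.val_mul, pairX_snd hr, pairX_snd hr, pairX_snd hr,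
        checked_E7.x_add (show sub r < chevE7.nroots from (sub_ok ⟨r, hr⟩).1)]
  comm r hr s hs h1 h2 t u := by
    have hw : ∀ x ∈ chevE6.commWord K r s t u, x.1 < 72 := by
      intro x hx
      rw [checked_E6.commWord_eq hr hs] at hx
      obtain ⟨c, hc, rfl⟩ := List.mem_map.1 hx
      exact checked_E6.cTerms_lt hr hs c hc
    refine Prod.ext (Units.ext ?_) (Units.ext ?_)
    · simp only [Prod.fst_mul, Units.val_mul, pairX_fst hr, pairX_fst hs, word_fst _ hw]
      exact checked_E6.commutator_formula hr hs h1 h2 t u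
    · have hr' : sub r < chevE7.nroots := (sub_ok ⟨r, hr⟩).1
      have hs' : sub s < chevE7.nroots := (sub_ok ⟨s, hs⟩).1
      have h1' : sub s ≠ sub r := fun e => h1 (congrArg Fin.val ((sub_ok ⟨s, hs⟩).2.2 ⟨r, hr⟩ e))
      have h2' : sub s ≠ ng chevE7 (sub r) := fun e => h2
        (congrArg Fin.val ((sub_ok ⟨s, hs⟩).2.2 ⟨ng chevE6 r, Checked.ng_lt hr⟩
          (e.trans (sub_ok ⟨r, hr⟩).2.1.symm)))
      have hcw : (chevE6.commWord K r s t u).map (fun x => (sub x.1, x.2)) =
          chevE7.commWord K (sub r) (sub s) t u := by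
        have hc := sub_comm
        simp only [List.all_eq_true, List.mem_range, beq_iff_eq] at hc
        rw [checked_E6.commWord_eq hr hs, checked_E7.commWord_eq hr' hs', hc r hr s hs, List.map_map, List.map_map]
        rfl
      simp only [Prod.snd_mul, Units.val_mul, pairX_snd hr, pairX_snd hs, word_snd _ hw, hcw]
      exact checked_E7.commutator_formula hr' hs' h1' h2' t u
  permutes i hi c hc s hs t := by
    have hp : chevE6.simple i < 72 := checked_E6.simple_lt hi
    have hr : refl E6.cert i s < 72 := checked_E6.refl_lt hi hs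
    obtain ⟨e1, e2, e3⟩ := sub_refl ⟨i, hi⟩ ⟨s, hs⟩
    simp only at e1 e2 e3
    obtain ⟨e4, -, e5⟩ := sub_refl ⟨i, hi⟩ ⟨_, hr⟩
    simp only at e5
    refine ⟨(((Units.mk0 c hc) ^ chevE6.cartan i (refl E6.cert i s) : Kˣ) : K) *
      ((eta E6.cert i s : K) * t), ?_⟩
    have hn1 : (((nX chevE6 (pairX K) i c).1 : GL chevE6.Idx K) : Matrix chevE6.Idx chevE6.Idx K) =
        chevE6.nMat K (chevE6.simple i) c := by
      rw [nX, word_fst _ (by simp [hp, show ng chevE6 (chevE6.simple i) < 72 from Checked.ng_lt hp]), ChevalleyDatum.nMat, ChevalleyDatum.nWord,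
        checked_E6.neg_eq hp]
    refine Prod.ext ?_ ?_
    · rw [Prod.fst_mul, Prod.fst_mul, Prod.fst_inv, mul_inv_eq_iff_eq_mul]
      refine Units.ext ?_
      rw [Units.val_mul, Units.val_mul, hn1, pairX_fst hs, pairX_fst hr]
      exact Cfsg.Agent.Lib.E6Cubic.nMat_conj checked_E6 hi hs (Units.mk0 c hc) t
    · rw [Prod.snd_mul, Prod.snd_mul, Prod.snd_inv, mul_inv_eq_iff_eq_mul]
      refine Units.ext ?_
      rw [Units.val_mul, Units.val_mul, nX_snd hi, pairX_snd hs, pairX_snd hr, e5, e2, e1]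
      exact Cfsg.Agent.Lib.E6Cubic.nMat_conj checked_E7 (show i < chevE7.rank by change i < 7; change i < 6 at hi; omega)
        (show sub s < chevE7.nroots from (sub_ok ⟨s, hs⟩).1) (Units.mk0 c hc) t

/-- Pairs mapped along a homomorphism of fields. -/
def pairMap {F : Type u} [Field F] (f : F →+* K) : Pairs F →* Pairs K :=
  MonoidHom.prodMap (glMap chevE6 f) (glMap chevE7 f)

/-- The group generated by the pairs. -/
def pairGroup (K : Type v) [Field K] : Subgroup (Pairs K) := genX (pairX K) {r | r < chevE6.nroots}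

theorem pairMap_X {F : Type u} [Field F] (f : F →+* K) {r : ℕ} (hr : r < 72) (t : F) :
    pairMap f (pairX F r t) = pairX K r (f t) := by
  have hr' : r < chevE6.nroots := hr
  rw [pairX, pairX, dif_pos hr', dif_pos hr']
  exact Prod.ext (glMap_xGL checked_E6 f hr' t) (glMap_xGL checked_E7 f (show sub r < chevE7.nroots from (sub_ok ⟨r, hr'⟩).1) t)

theorem pairMap_group {F : Type u} [Field F] (f : F →+* K) : (pairGroup F).map (pairMap f) ≤ pairGroup K := by
  rw [pairGroup, genX, MonoidHom.map_closure, Subgroup.closure_le]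
  rintro _ ⟨_, ⟨r, hr, t, rfl⟩, rfl⟩
  rw [pairMap_X f hr]
  exact X_mem_genX _ (S := {r | r < chevE6.nroots}) hr _

theorem snd_mem {p : Pairs K} (hp : p ∈ pairGroup K) : p.2 ∈ chevE7.group K := by
  have h : (pairGroup K).map (MonoidHom.snd _ _) ≤ chevE7.group K := by
    rw [pairGroup, genX, MonoidHom.map_closure, Subgroup.closure_le]
    rintro _ ⟨_, ⟨r, hr, t, rfl⟩, rfl⟩
    refine Subgroup.subset_closure ⟨⟨sub r, (sub_ok ⟨r, hr⟩).1⟩, t, ?_⟩
    rw [MonoidHom.coe_snd, pairX_snd hr, ChevalleyDatum.x,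
      dif_pos (show sub r < chevE7.nroots from (sub_ok ⟨r, hr⟩).1)]
  exact h ⟨p, hp, rfl⟩

theorem exists_pair {x : GL chevE6.Idx K} (hx : x ∈ chevE6.group K) : ∃ p ∈ pairGroup K, p.1 = x := by
  have h : (pairGroup K).map (MonoidHom.fst _ _) = chevE6.group K := by
    rw [pairGroup, genX, MonoidHom.map_closure, ChevalleyDatum.group]
    congr 1
    ext g
    constructor
    · rintro ⟨_, ⟨r, hr, t, rfl⟩, rfl⟩
      refine ⟨⟨r, hr⟩, t, ?_⟩
      rw [MonoidHom.coe_fst, pairX_fst hr, ChevalleyDatum.x, dif_pos (show r < chevE6.nroots from hr)]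
    · rintro ⟨r, t, e⟩
      refine ⟨_, ⟨r.val, r.isLt, t, rfl⟩, Units.ext ?_⟩
      rw [MonoidHom.coe_fst, pairX_fst r.isLt, ChevalleyDatum.x, dif_pos r.isLt, e]
  rw [← h] at hx
  obtain ⟨p, hp, e⟩ := hx
  exact ⟨p, hp, e⟩

theorem hX_snd {i : ℕ} (hi : i < 6) (c : Kˣ) :
    (hX chevE6 (pairX K) i (c : K)).2 = torusHom chevE7 K (Pi.mulSingle i c) := by
  have hi' : i < chevE7.rank := by change i < 7; omega
  refine Units.ext ?_
  rw [← (Rooted.mk checked_E7 descent_E7).hMat_simple_torus hi', hX, Prod.snd_mul, Units.val_mul, nX_snd hi,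
    nX_snd hi, checked_E7.hMat_eq_mul]

theorem hX_mem {i : ℕ} (hi : i < 6) (c : Kˣ) : hX chevE6 (pairX K) i (c : K) ∈ pairGroup K := by
  have hp : chevE6.simple i < chevE6.nroots := checked_E6.simple_lt (show i < chevE6.rank from hi)
  have h : ∀ a : K, nX chevE6 (pairX K) i a ∈ pairGroup K := fun a => by
    refine list_prod_mem fun q hq => ?_
    obtain ⟨⟨r, t⟩, hr, rfl⟩ := List.mem_map.1 hq
    have hr' : r < chevE6.nroots := by
      simp only [List.mem_cons, List.not_mem_nil, or_false, Prod.mk.injEq] at hr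
      rcases hr with ⟨rfl, -⟩ | ⟨rfl, -⟩ | ⟨rfl, -⟩
      · exact hp
      · exact Checked.ng_lt hp
      · exact hp
    exact X_mem_genX _ (S := {r | r < chevE6.nroots}) hr' t
  exact mul_mem (h _) (h _)

theorem torus_snd {p : Pairs K} (hp : p ∈ torus chevE6 (pairX K)) :
    p.2 ∈ chevE7.diagonalSubgroup K := by
  have h : (torus chevE6 (pairX K)).map (MonoidHom.snd _ _) ≤ chevE7.diagonalSubgroup K := by
    rw [torus, MonoidHom.map_closure, Subgroup.closure_le]
    rintro _ ⟨_, ⟨i, hi, c, rfl⟩, rfl⟩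
    rw [MonoidHom.coe_snd, hX_snd hi, (Rooted.mk checked_E7 descent_E7).diagonalSubgroup_eq]
    exact ⟨_, rfl⟩
  exact h ⟨p, hp, rfl⟩

theorem nPair_spec : ∀ {L : List ℕ}, (∀ i ∈ L, i < 6) →
    (L.map fun i => nX chevE6 (pairX K) i 1).prod ∈ pairGroup K ∧
      ((L.map fun i => nX chevE6 (pairX K) i 1).prod).1 = nProd checked_E6 K L ∧
      ((L.map fun i => nX chevE6 (pairX K) i 1).prod).2 = nProd checked_E7 K L
  | [], _ => ⟨one_mem _, by simp [nProd], by simp [nProd]⟩
  | i :: L, hL => by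
    obtain ⟨h1, h2, h3⟩ := nPair_spec (L := L) fun j hj => hL j (List.mem_cons_of_mem _ hj)
    have hi : i < 6 := hL i List.mem_cons_self
    have hp : chevE6.simple i < chevE6.nroots := checked_E6.simple_lt (show i < chevE6.rank from hi)
    refine ⟨?_, ?_, ?_⟩
    · rw [List.map_cons, List.prod_cons]
      refine mul_mem (list_prod_mem fun q hq => ?_) h1
      obtain ⟨⟨r, t⟩, hr, rfl⟩ := List.mem_map.1 hq
      have hr' : r < chevE6.nroots := by
        simp only [List.mem_cons, List.not_mem_nil, or_false, Prod.mk.injEq] at hr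
        rcases hr with ⟨rfl, -⟩ | ⟨rfl, -⟩ | ⟨rfl, -⟩
        · exact hp
        · exact Checked.ng_lt hp
        · exact hp
      exact X_mem_genX _ (S := {r | r < chevE6.nroots}) hr' t
    · rw [List.map_cons, List.prod_cons, Prod.fst_mul, h2, nProd_cons]
      congr 1
      refine Units.ext ?_
      rw [coe_nS checked_E6 (show i < chevE6.rank from hi)]
      exact rootLift_pair.map_nX (show i < chevE6.rank from hi) 1
    · rw [List.map_cons, List.prod_cons, Prod.snd_mul, h3, nProd_cons]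
      congr 1
      exact Units.ext (by rw [coe_nS checked_E7 (show i < chevE7.rank by change i < 7; omega)]; exact nX_snd hi 1)

theorem exists_lang6 {F : Type u} [Field F] [Fintype F] [Fintype K]
    (hK : Fintype.card K = Fintype.card F ^ 12) (f : F →+* K) (σ : K →+* K)
    (hσ : ∀ x, σ x = x ^ Fintype.card F) (hσf : ∀ a, σ (f a) = f a) :
    ∃ g ∈ chevE7.group K, ∃ t ∈ chevE7.diagonalSubgroup K,
      glMap chevE7 σ g * g⁻¹ = t * nProd checked_E7 K [0, 1, 2, 3, 4, 5] := by
  obtain ⟨g, hg, t, ht, e⟩ := E6Twist.exists_lang hK f σ hσ hσf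
  obtain ⟨gp, hgp, rfl⟩ := exists_pair hg
  obtain ⟨hn, hn1, hn2⟩ := nPair_spec (K := K) (L := [0, 1, 2, 3, 4, 5]) (by decide)
  set np := ([0, 1, 2, 3, 4, 5].map fun i => nX chevE6 (pairX K) i (1 : K)).prod
  have ht' : ∃ tp ∈ torus chevE6 (pairX K), tp ∈ pairGroup K ∧ tp.1 = t := by
    have hh : Rooted chevE6 E6.cert := ⟨checked_E6, descent_E6⟩
    rw [hh.diagonalSubgroup_eq] at ht
    obtain ⟨c, rfl⟩ := ht
    have key : ∀ s : Finset ℕ, (∀ i ∈ s, i < 6) → ∃ tp ∈ torus chevE6 (pairX K), tp ∈ pairGroup K ∧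
        tp.1 = torusHom chevE6 K (∏ i ∈ s, Pi.mulSingle i (c i)) := by
      intro s
      induction s using Finset.induction_on with
      | empty => intro _; exact ⟨1, one_mem _, one_mem _, by rw [Finset.prod_empty, map_one]; rfl⟩
      | insert i s his ih =>
        intro hs
        obtain ⟨tp, h1, h2, h3⟩ := ih fun j hj => hs j (Finset.mem_insert_of_mem hj)
        have hi := hs i (Finset.mem_insert_self i s)
        refine ⟨hX chevE6 (pairX K) i ((c i : Kˣ) : K) * tp,
          mul_mem (Subgroup.subset_closure ⟨i, hi, c i, rfl⟩) h1, mul_mem (hX_mem hi _) h2, ?_⟩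
        rw [Prod.fst_mul, h3, Finset.prod_insert his, map_mul]
        congr 1
        refine Units.ext ?_
        rw [← hh.hMat_simple_torus (show i < chevE6.rank from hi)]
        exact rootLift_pair.map_hX (show i < chevE6.rank from hi) _
    obtain ⟨tp, h1, h2, h3⟩ := key (Finset.range 6) fun i hi => Finset.mem_range.1 hi
    refine ⟨tp, h1, h2, h3.trans (torusHom_congr fun i hi => ?_)⟩
    rw [Finset.prod_apply, Finset.prod_eq_single i]
    · rw [Pi.mulSingle_eq_same]
    · intro j _ hj; rw [Pi.mulSingle_eq_of_ne (Ne.symm hj)]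
    · intro hn; exact absurd (Finset.mem_range.2 hi) hn
  obtain ⟨tp, htt, htp, rfl⟩ := ht'
  set k := pairMap σ gp * gp⁻¹ * (tp * np)⁻¹ with hk
  have hkG : k ∈ pairGroup K :=
    mul_mem (mul_mem (pairMap_group σ ⟨gp, hgp, rfl⟩) (inv_mem hgp)) (inv_mem (mul_mem htp hn))
  have hk1 : MonoidHom.fst (GL chevE6.Idx K) (GL chevE7.Idx K) k = 1 := by
    rw [hk]
    simp only [MonoidHom.coe_fst, Prod.fst_mul, Prod.fst_inv, hn1]
    show glMap chevE6 σ gp.1 * gp.1⁻¹ * _ = 1
    rw [e, mul_inv_cancel]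
  have hkT := rootLift_pair.ker_le_torus hkG hk1
  refine ⟨gp.2, snd_mem hgp, k.2 * tp.2, mul_mem (torus_snd hkT) (torus_snd htt), ?_⟩
  rw [hk]
  simp only [Prod.snd_mul, Prod.snd_inv, hn2]
  show glMap chevE7 σ gp.2 * gp.2⁻¹ = _
  group
  rfl

end Cfsg.Agent.Lib.E7Twist
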