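import Cfsg.Agent.Lib.E7Twist.Twist
import Cfsg.Agent.Lib.Chev.Parabolic
import Mathlib.FieldTheory.Finite.Extension

/-!
An element of the group of type E7 over a finite extension whose Frobenius quotient is the monomial element of the
product of six fundamental reflections and the reflection in the root `89`, up to a diagonal factor.
-/

set_option autoImplicit false

namespace Cfsg.Agent.Lib.E7Twist

open Cfsg.Lie Cfsg.Agent.Lib.Chev Cfsg.Agent.Lib.ChevField RankOneData
open scoped Matrix MatrixGroups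

variable {L : Type*} [Field L]

/-- The rank one homomorphism of the root `89`. -/
theorem exists_phi (L : Type*) [Field L] : ∃ (φ : SL(2, L) →* GL chevE7.Idx L) (e : L), e * e = 1 ∧
    (∀ t, φ (upper t) = xr L 89 (e * t) ∧ φ (lower t) = xr L (ng chevE7 89) (e * t)) ∧
    ∀ (a : L) (ha : a ≠ 0), ∃ d ∈ chevE7.diagonalSubgroup L, φ (diagEl a ha * wElt) =
      d * nProd checked_E7 L reflWord := by
  have hi : (1 : ℕ) < chevE7.rank := by decide
  have hp : chevE7.simple 1 < chevE7.nroots := checked_E7.simple_lt hi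
  obtain ⟨φ0, -, hφ0⟩ := hh7.hasSL2_simple (F := L) Twisted.etaSigns_E7 hi hp
  set ny := nProd checked_E7 L betaWord with hny
  have hrev : (betaWord.reverse).reverse = betaWord := List.reverse_reverse _
  obtain ⟨e, he, hlt, -, hconj⟩ := conj_nProd (L := L) (W := betaWord) (by decide) (r := 89) (by norm_num)
  have hback : Chev.perm E7.cert betaWord.reverse 89 = chevE7.simple 1 := by decide +kernel
  let φ : SL(2, L) →* GL chevE7.Idx L := (MulAut.conj ny).toMonoidHom.comp φ0
  refine ⟨φ, e, he, fun t => ⟨?_, ?_⟩, fun a ha => ?_⟩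
  · have h1 := (hconj (e * t)).1
    rw [hback, ← mul_assoc, he, one_mul, xr_eq hp, ← (hφ0 t).1] at h1
    show ny * φ0 (upper t) * ny⁻¹ = _
    rw [← h1, hny]; group
  · have h1 := (hconj (e * t)).2
    rw [hback, ← mul_assoc, he, one_mul, xr_eq (Checked.ng_lt hp), ← (hφ0 t).2] at h1
    show ny * φ0 (lower t) * ny⁻¹ = _
    rw [← h1, hny]; group
  · have hn : ∀ b : L, b ≠ 0 → ((φ0 (upper b * lower (-b⁻¹) * upper b) : GL chevE7.Idx L) : Matrix chevE7.Idx chevE7.Idx L) =
        chevE7.nMat L (chevE7.simple 1) b := by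
      intro b _
      simp only [map_mul, (hφ0 _).1, (hφ0 _).2, Units.val_mul, coe_xGL, ChevalleyDatum.nMat, ChevalleyDatum.nWord,
        ChevalleyDatum.wordMat, List.map_cons, List.map_nil, List.prod_cons, List.prod_nil, mul_one,
        checked_E7.neg_eq hp, mul_assoc]
    have hw : diagEl a ha * wElt = upper a * lower (-a⁻¹) * upper a := by
      refine sl_ext ?_ ?_ ?_ ?_ <;> simp only [mul_entry, upper_entries, lower_entries, wElt_entries] <;>
        simp [diagEl, ha]
    have hN : φ0 (diagEl a ha * wElt) = torusHom chevE7 L (Pi.mulSingle 1 (Units.mk0 a ha)) * nS checked_E7 L 1 := by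
      rw [hw]
      refine Units.ext ?_
      rw [hn a ha, Units.val_mul, ← hh7.hMat_simple_torus hi, coe_nS _ hi, Units.val_mk0,
        checked_E7.hMat_eq_mul, mul_assoc]
      have h1 := checked_E7.nMat_mul_nMat_neg (F := L) hp (-1 : L)
      rw [neg_neg] at h1
      rw [h1, mul_one]
    have hT : torusHom chevE7 L (Pi.mulSingle 1 (Units.mk0 a ha)) ∈ chevE7.diagonalSubgroup L := by
      rw [hh7.diagonalSubgroup_eq]; exact ⟨_, rfl⟩
    have hLy : IsWord chevE7 betaWord := by
      intro i hi; simp only [betaWord, List.mem_cons, List.not_mem_nil, or_false] at hi; show i < 7; omega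
    obtain ⟨t1, ht1, e1⟩ := hh7.nProd_conj_diag hLy hT
    have hd0 := hh7.diag_of_wperm_eq (F := L) (L := []) (L' := betaWord ++ betaWord.reverse) (by simp [IsWord])
      (hLy.append hLy.reverse) (by rw [wperm_append, checked_E7.wperm_reverse hLy, mul_inv_cancel, wperm_nil])
    rw [show nProd checked_E7 L ([] : List ℕ) = 1 from by simp [nProd], inv_one, one_mul, nProd_append, ← hny] at hd0
    have hLy' : IsWord chevE7 (betaWord ++ [1]) := hLy.append (by simp [IsWord]; decide)
    obtain ⟨t2, ht2, e2⟩ := hh7.nProd_conj_diag hLy' (inv_mem (hh7.diag_of_wperm_eq (F := L) (L := [])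
      (L' := betaWord.reverse ++ betaWord) (by simp [IsWord]) (hLy.reverse.append hLy)
      (by rw [wperm_append, checked_E7.wperm_reverse hLy, inv_mul_cancel, wperm_nil])))
    refine ⟨t1 * t2⁻¹⁻¹, mul_mem ht1 (inv_mem (inv_mem ht2)), ?_⟩
    show ny * φ0 (diagEl a ha * wElt) * ny⁻¹ = _
    rw [hN, ← mul_assoc, e1, inv_inv, mul_assoc t1 t2]
    rw [show nProd checked_E7 L ([] : List ℕ) = 1 from by simp [nProd], inv_one, one_mul, nProd_append,
      nProd_append] at e2
    have hr : nProd checked_E7 L reflWord = nProd checked_E7 L betaWord * nS checked_E7 L 1 *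
        nProd checked_E7 L betaWord.reverse := by
      rw [show reflWord = betaWord ++ [1] ++ betaWord.reverse from rfl, nProd_append, nProd_append]
      simp [nProd]
    rw [hr, ← hny]
    simp only [← hny, show nProd checked_E7 L [1] = nS checked_E7 L 1 by simp [nProd]] at e2
    calc t1 * ny * nS checked_E7 L 1 * ny⁻¹
        = t1 * ((ny * nS checked_E7 L 1) * (nProd checked_E7 L betaWord.reverse * ny)⁻¹) *
            nProd checked_E7 L betaWord.reverse := by group
      _ = t1 * (t2 * (ny * nS checked_E7 L 1)) * nProd checked_E7 L betaWord.reverse := by rw [e2]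
      _ = _ := by group

theorem commute_root {a b : ℕ} (ha : a < chevE7.nroots) (hb : b < chevE7.nroots) (h1 : b ≠ a)
    (h2 : b ≠ ng chevE7 a) (hc : cTerms E7.cert a b = []) (t u : L) : Commute (xr L a t) (xr L b u) := by
  rw [xr_eq ha, xr_eq hb]
  refine Units.ext ?_
  rw [Units.val_mul, Units.val_mul, coe_xGL, coe_xGL, checked_E7.commutator_formula ha hb h1 h2,
    checked_E7.commWord_eq ha hb, hc]
  simp [ChevalleyDatum.wordMat]

theorem commute_hom {φ ψ : SL(2, L) →* GL chevE7.Idx L}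
    (h : ∀ t u, Commute (φ (upper t)) (ψ (upper u)) ∧ Commute (φ (upper t)) (ψ (lower u)) ∧
      Commute (φ (lower t)) (ψ (upper u)) ∧ Commute (φ (lower t)) (ψ (lower u))) (g g' : SL(2, L)) :
    Commute (φ g) (ψ g') := by
  have e : (wElt : SL(2, L)) = upper 1 * lower (-1) * upper 1 := by
    refine sl_ext ?_ ?_ ?_ ?_ <;> simp [mul_entry, upper_entries, lower_entries, wElt_entries]
  have hg : ∀ g : SL(2, L), (∀ u, Commute (φ g) (ψ (upper u)) ∧ Commute (φ g) (ψ (lower u))) → ∀ g', Commute (φ g) (ψ g') := by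
    intro g hu g'
    have : g' ∈ Subgroup.closure (Set.range (upper (F := L)) ∪ {wElt}) := by rw [closure_gens]; trivial
    induction this using Subgroup.closure_induction with
    | mem x hx =>
      rcases hx with ⟨u, rfl⟩ | hx
      · exact (hu u).1
      · rw [Set.mem_singleton_iff] at hx
        rw [hx, e, map_mul, map_mul]
        exact ((hu 1).1.mul_right (hu (-1)).2).mul_right (hu 1).1
    | one => rw [map_one]; exact Commute.one_right _
    | mul x y _ _ hx hy => rw [map_mul]; exact hx.mul_right hy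
    | inv x _ hx => rw [map_inv]; exact hx.inv_right
  refine hg g (fun u => ?_) g'
  have : g ∈ Subgroup.closure (Set.range (upper (F := L)) ∪ {wElt}) := by rw [closure_gens]; trivial
  induction this using Subgroup.closure_induction with
  | mem x hx =>
    rcases hx with ⟨t, rfl⟩ | hx
    · exact ⟨(h t u).1, (h t u).2.1⟩
    · rw [Set.mem_singleton_iff] at hx
      rw [hx, e, map_mul, map_mul]
      exact ⟨((h 1 u).1.mul_left (h (-1) u).2.2.1).mul_left (h 1 u).1,
        ((h 1 u).2.1.mul_left (h (-1) u).2.2.2).mul_left (h 1 u).2.1⟩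
  | one => rw [map_one]; exact ⟨Commute.one_left _, Commute.one_left _⟩
  | mul x y _ _ hx hy => rw [map_mul]; exact ⟨hx.1.mul_left hy.1, hx.2.mul_left hy.2⟩
  | inv x _ hx => rw [map_inv]; exact ⟨hx.1.inv_left, hx.2.inv_left⟩

theorem root_exists [Fintype L] {Q P : ℕ} (hQ : 2 ≤ Q) (hP : Q ^ 4 = P + 1) (hL : Fintype.card L = (P + 1) ^ (Q - 1))
    {k : L} (hk : k ^ P = 1) : ∃ θ : L, θ ^ (Q * Q) = θ * k * k ^ Q ∧ θ ^ Q ≠ θ * k := by
  classical
  have hm : Fintype.card Lˣ = (P + 1) ^ (Q - 1) - 1 := by rw [Fintype.card_units, hL]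
  have hP0 : 0 < P := by
    have : 2 ^ 4 ≤ Q ^ 4 := Nat.pow_le_pow_left hQ 4
    omega
  obtain ⟨g, hg⟩ := IsCyclic.exists_ofOrder_eq_natCard (α := Lˣ)
  rw [Nat.card_eq_fintype_card] at hg
  have hgen : ∀ x : Lˣ, ∃ n : ℕ, g ^ n = x := by
    intro x
    have h1 : x ∈ Subgroup.zpowers g := by
      have : Subgroup.zpowers g = ⊤ := Subgroup.eq_top_of_card_eq _ (by rw [Nat.card_zpowers, hg, Nat.card_eq_fintype_card])
      rw [this]; trivial
    exact (mem_powers_iff_mem_zpowers.2 h1)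
  -- `P * (Q - 1)` divides the order
  have hdvd : P * (Q - 1) ∣ Fintype.card Lˣ := by
    have hgs : (∑ i ∈ Finset.range (Q - 1), (P + 1) ^ i) * P + 1 = (P + 1) ^ (Q - 1) :=
      geom_sum_mul_add P (Q - 1)
    rw [hm, ← hgs, Nat.add_sub_cancel, mul_comm P]
    refine Nat.mul_dvd_mul_right ?_ P
    rw [← ZMod.natCast_eq_zero_iff, Nat.cast_sum]
    have hQ1 : ((Q : ℕ) : ZMod (Q - 1)) = 1 := by
      have h := ZMod.natCast_self (Q - 1)
      rw [Nat.cast_sub (by omega : 1 ≤ Q), Nat.cast_one] at h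
      exact sub_eq_zero.1 h
    rw [Finset.sum_congr rfl fun i _ => show (((P + 1) ^ i : ℕ) : ZMod (Q - 1)) = 1 by
      rw [← hP, Nat.cast_pow, Nat.cast_pow, hQ1, one_pow, one_pow]]
    rw [Finset.sum_const, Finset.card_range, nsmul_one, ZMod.natCast_self]
  have hQ1P : Q + 1 ∣ P := by
    obtain ⟨c, hc⟩ : ((Q : ℤ) + 1) ∣ (P : ℤ) :=
      ⟨((Q : ℤ) - 1) * ((Q : ℤ) ^ 2 + 1), by
        have : (P : ℤ) + 1 = (Q : ℤ) ^ 4 := by exact_mod_cast hP.symm
        linear_combination this⟩
    exact Int.natCast_dvd_natCast.1 ⟨c, by push_cast; exact hc⟩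
  -- a root of unity of order `Q + 1`
  set m := Fintype.card Lˣ with hmdef
  have hm0 : 0 < m := Fintype.card_pos
  set ζ := g ^ (m / (Q + 1)) with hζ
  have hQm : Q + 1 ∣ m := (hQ1P.trans (dvd_mul_right P (Q - 1))).trans hdvd
  have hζo : orderOf ζ = Q + 1 := by
    rw [hζ]; nth_rw 1 [← hg]; exact orderOf_pow_orderOf_div (by omega) (hg ▸ hQm)
  have hk0 : k ≠ 0 := fun h => by rw [h, zero_pow hP0.ne'] at hk; exact zero_ne_one hk
  set x := ζ * Units.mk0 k hk0 with hx
  have hxP : x ^ P = 1 := by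
    rw [hx, mul_pow, orderOf_dvd_iff_pow_eq_one.1 (hζo ▸ hQ1P), one_mul]
    exact Units.ext (by simpa using hk)
  obtain ⟨n, hn⟩ := hgen x
  have hmn : m ∣ n * P := by
    rw [← hn, ← pow_mul] at hxP
    rw [← hg]; exact orderOf_dvd_of_pow_eq_one hxP
  have hQn : Q - 1 ∣ n := by
    have h1 : P * (Q - 1) ∣ P * n := by rw [mul_comm P n]; exact hdvd.trans hmn
    exact Nat.dvd_of_mul_dvd_mul_left hP0 h1
  obtain ⟨n', rfl⟩ := hQn
  set θ := g ^ n' with hθ
  have hθQ : θ ^ (Q - 1) = x := by rw [hθ, ← pow_mul, mul_comm, hn]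
  have hθQ' : ((θ : Lˣ) : L) ^ Q = (θ : L) * ((ζ : L) * k) := by
    conv_lhs => rw [show Q = 1 + (Q - 1) by omega, pow_add, pow_one, ← Units.val_pow_eq_pow_val, hθQ, hx]
    simp
  refine ⟨θ, ?_, ?_⟩
  · rw [pow_mul, hθQ', mul_pow, hθQ', mul_pow]
    have h1 : (ζ : L) ^ (Q + 1) = 1 := by
      rw [← Units.val_pow_eq_pow_val, ← hζo, pow_orderOf_eq_one, Units.val_one]
    rw [pow_succ] at h1
    linear_combination ((θ : L) * k * k ^ Q) * h1
  · rw [hθQ']
    intro h
    have h1 : (ζ : L) = 1 := mul_right_cancel₀ hk0 ((mul_left_cancel₀ (Units.ne_zero θ) h).trans (one_mul k).symm)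
    have : ζ = 1 := Units.ext h1
    rw [this, orderOf_one] at hζo
    omega

theorem map_entry (f : L →+* L) (g : SL(2, L)) (i j : Fin 2) : Matrix.SpecialLinearGroup.map f g i j = f (g i j) :=
  rfl

theorem pow_three (x : L) (q : ℕ) : ((x ^ q) ^ q) ^ q = x ^ q ^ 3 := by
  rw [← pow_mul, ← pow_mul]
  congr 1
  ring

set_option maxHeartbeats 1000000 in
theorem exists_lang {F K : Type*} [Field F] [Fintype F] [Field K] [Fintype K] [Fintype L]
    (hK : Fintype.card K = Fintype.card F ^ 12)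
    (hL : Fintype.card L = (Fintype.card F ^ 12) ^ (Fintype.card F ^ 3 - 1))
    (fK : F →+* K) (σK : K →+* K) (hσK : ∀ x, σK x = x ^ Fintype.card F) (hσfK : ∀ a, σK (fK a) = fK a)
    (ι : K →+* L) (σ : L →+* L) (hσ : ∀ x, σ x = x ^ Fintype.card F) :
    ∃ g ∈ chevE7.group L, ∃ t ∈ chevE7.diagonalSubgroup L,
      glMap chevE7 σ g * g⁻¹ = t * nProd checked_E7 L twistWord := by
  classical
  set q := Fintype.card F with hq
  have hq2 : 2 ≤ q := Fintype.one_lt_card
  set P := q ^ 12 - 1 with hPdef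
  have hP1 : P + 1 = q ^ 12 := Nat.sub_add_cancel (Nat.one_le_pow _ _ (by omega))
  obtain ⟨g0, hg0, t0, ht0, e0⟩ := exists_lang6 hK fK σK hσK hσfK
  rw [hh7.diagonalSubgroup_eq] at ht0
  obtain ⟨c0, rfl⟩ := ht0
  set g6 := glMap chevE7 ι g0 with hg6
  set c : ℕ → Lˣ := fun i => Units.map ι.toMonoidHom (c0 i) with hc
  have hcP : ∀ i, c i ^ P = 1 := fun i => by
    rw [hc, ← map_pow, hPdef, ← hK, ← Fintype.card_units, pow_card_eq_one, map_one]
  have hPe : Even P ∨ (-1 : L) = 1 := by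
    rcases Nat.even_or_odd q with hev | hodd
    · right
      obtain ⟨p, hp⟩ := CharP.exists L
      haveI := hp
      haveI : Fact p.Prime := ⟨CharP.char_is_prime L p⟩
      obtain ⟨n, -, hn⟩ := FiniteField.card L p
      have h2 : 2 ∣ Fintype.card L := by
        rw [hL]
        have : 2 ^ 3 ≤ q ^ 3 := Nat.pow_le_pow_left hq2 3
        exact dvd_pow ((even_iff_two_dvd.1 hev).trans (dvd_pow_self q (by norm_num))) (by omega)
      rw [hn] at h2
      have := (Nat.prime_dvd_prime_iff_eq Nat.prime_two (Fact.out : p.Prime)).1 (Nat.prime_two.dvd_of_dvd_pow h2)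
      subst this
      rw [CharTwo.neg_eq]
    · left
      have hodd12 : Odd (q ^ 12) := hodd.pow
      exact Nat.Odd.sub_odd hodd12 odd_one
  set hel := torusHom chevE7 L c * nProd checked_E7 L [0, 1, 2, 3, 4, 5] with hhel
  have hσι : σ.comp ι = ι.comp σK := RingHom.ext fun x => by
    show σ (ι x) = ι (σK x)
    rw [hσ, hσK, map_pow]
  have e6 : glMap chevE7 σ g6 * g6⁻¹ = hel := by
    have := congrArg (glMap chevE7 ι) e0
    rw [map_mul, map_mul, map_inv, glMap_glMap, ← hσι, ← glMap_glMap, glMap_torusHom, glMap_nProd] at this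
    exact this
  obtain ⟨φ, e, he, hφ, hdiag⟩ := exists_phi L
  obtain ⟨o1, o2, o3, -⟩ := orbit_ok
  obtain ⟨k1, hk1, hf1⟩ := frob_root σ q P hσ hPe c hcP (r := 89) (by norm_num)
  obtain ⟨k2, hk2, hf2⟩ := frob_root σ q P hσ hPe c hcP (r := 114) (by norm_num)
  obtain ⟨k3, hk3, hf3⟩ := frob_root σ q P hσ hPe c hcP (r := 107) (by norm_num)
  rw [← hhel, o1] at hf1
  rw [← hhel, o2] at hf2
  rw [← hhel, o3] at hf3
  have hP0 : P ≠ 0 := by
    have : 2 ^ 12 ≤ q ^ 12 := Nat.pow_le_pow_left hq2 12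
    omega
  have hne : ∀ {k : L}, k ^ P = 1 → k ≠ 0 := fun {k} h h0 => by rw [h0, zero_pow hP0] at h; exact zero_ne_one h
  set Fr := frob σ hel with hFr
  set φ2 := Fr.comp φ with hφ2
  set φ3 := Fr.comp φ2 with hφ3
  set Q := q ^ 3 with hQdef
  let σQ : L →+* L := (σ.comp σ).comp σ
  have hσQ : ∀ x, σQ x = x ^ Q := fun x => by
    show σ (σ (σ x)) = _
    rw [hσ, hσ, hσ, ← pow_mul, ← pow_mul, hQdef]; ring_nf
  set k := k3 * (k2 * k1 ^ q) ^ q with hk
  have hkP : k ^ P = 1 := by
    rw [hk, mul_pow, hk3, one_mul, pow_right_comm, mul_pow, hk2, one_mul, pow_right_comm k1 q P, hk1, one_pow,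
      one_pow]
  have hk0 : k ≠ 0 := hne hkP
  have heq : e ^ q = e := by
    rcases mul_self_eq_one_iff.1 he with rfl | rfl
    · exact one_pow q
    · rw [← hσ, map_neg, map_one]
  have hupper : ∀ t, φ2 (upper t) = xr L 114 (k1 * (e * t) ^ q) ∧
      φ2 (lower t) = xr L (ng chevE7 114) (k1⁻¹ * (e * t) ^ q) := fun t => by
    simp only [hφ2, MonoidHom.comp_apply, (hφ t).1, (hφ t).2]; exact hf1 _
  have hupper3 : ∀ t, φ3 (upper t) = xr L 107 (k2 * (k1 * (e * t) ^ q) ^ q) ∧
      φ3 (lower t) = xr L (ng chevE7 107) (k2⁻¹ * (k1⁻¹ * (e * t) ^ q) ^ q) := fun t => by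
    simp only [hφ3, MonoidHom.comp_apply, (hupper t).1, (hupper t).2]; exact ⟨(hf2 _).1, (hf2 _).2⟩
  have hQ0 : Q ≠ 0 := by rw [hQdef]; exact pow_ne_zero 3 (by omega)
  have hthree : Fr.comp φ3 = φ.comp ((scaleHom k hk0).comp (Matrix.SpecialLinearGroup.map σQ)) := by
    refine hom_ext (fun t => ?_) (fun t => ?_)
    · have e1 : scaleHom k hk0 (Matrix.SpecialLinearGroup.map σQ (upper t)) = upper (k * t ^ Q) := by
        refine sl_ext ?_ ?_ ?_ ?_ <;> simp [scaleHom_entries, upper_entries, map_entry, hσQ, zero_pow hQ0]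
      simp only [MonoidHom.comp_apply, (hupper3 t).1, (hf3 _).1, e1, (hφ _).1]
      refine congrArg (xr L 89) ?_
      simp only [hk, hQdef, mul_pow, heq, pow_three]
      generalize t ^ q ^ 3 = T
      ring
    · have e1 : scaleHom k hk0 (Matrix.SpecialLinearGroup.map σQ (lower t)) = lower (k⁻¹ * t ^ Q) := by
        refine sl_ext ?_ ?_ ?_ ?_ <;> simp [scaleHom_entries, lower_entries, map_entry, hσQ, zero_pow hQ0]
      simp only [MonoidHom.comp_apply, (hupper3 t).2, (hf3 _).2, e1, (hφ _).2]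
      refine congrArg (xr L (ng chevE7 89)) ?_
      simp only [hk, hQdef, mul_pow, heq, mul_inv, inv_pow, pow_three]
      generalize t ^ q ^ 3 = T
      ring
  obtain ⟨θ, hθ, hθne⟩ := root_exists (L := L) (Q := Q) (P := P)
    (le_trans hq2 (Nat.le_self_pow (by norm_num) q)) (by rw [hQdef, ← pow_mul, hP1])
    (by rw [hP1, hQdef]; exact hL) hkP
  obtain ⟨M, a, ha, hM⟩ := exists_solution Q (by positivity) σQ hσQ hk0 hθ hθne
  have hcomm := orbit_comm
  simp only [List.all_eq_true, Bool.or_eq_true, Bool.and_eq_true, Nat.beq_eq, List.isEmpty_iff,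
    Bool.not_eq_true', beq_eq_false_iff_ne] at hcomm
  have hcr : ∀ a b, a ∈ [89, 114, 107] → b ∈ [89, 114, 107] → a ≠ b → a < 126 → b < 126 → ∀ t u : L,
      Commute (xr L a t) (xr L b u) ∧ Commute (xr L a t) (xr L (ng chevE7 b) u) ∧
      Commute (xr L (ng chevE7 a) t) (xr L b u) ∧ Commute (xr L (ng chevE7 a) t) (xr L (ng chevE7 b) u) := by
    intro a b ha hb hab hla hlb t u
    have hna : ng chevE7 a < chevE7.nroots := Checked.ng_lt hla
    have hnb : ng chevE7 b < chevE7.nroots := Checked.ng_lt hlb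
    obtain ⟨⟨⟨⟨c1, c2⟩, c3⟩, c4⟩, c5⟩ := (hcomm a ha b hb).resolve_left hab
    have c5' : b ≠ ng chevE7 a := fun h => by simp [← h] at c5
    have hnn : ng chevE7 (ng chevE7 a) = a := Checked.ng_ng hla
    have hnnb : ng chevE7 (ng chevE7 b) = b := Checked.ng_ng hlb
    refine ⟨commute_root hla hlb (Ne.symm hab) c5' c1 t u, commute_root hla hnb ?_ ?_ c3 t u,
      commute_root hna hlb c5' ?_ c2 t u, commute_root hna hnb ?_ ?_ c4 t u⟩
    · exact fun h => c5' (by rw [← h, hnnb])
    · exact fun h => hab (by rw [← hnn, ← h, hnnb])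
    · rw [hnn]; exact Ne.symm hab
    · exact fun h => hab (by rw [← hnn, ← h, hnnb])
    · rw [hnn]; exact fun h => c5' (by rw [← h, hnnb])
  have C12 : ∀ g g', Commute (φ g) (φ2 g') := commute_hom fun t u => by
    rw [(hφ t).1, (hφ t).2, (hupper u).1, (hupper u).2]
    exact ⟨(hcr 89 114 (by simp) (by simp) (by norm_num) (by norm_num) (by norm_num) _ _).1,
      (hcr 89 114 (by simp) (by simp) (by norm_num) (by norm_num) (by norm_num) _ _).2.1,
      (hcr 89 114 (by simp) (by simp) (by norm_num) (by norm_num) (by norm_num) _ _).2.2.1,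
      (hcr 89 114 (by simp) (by simp) (by norm_num) (by norm_num) (by norm_num) _ _).2.2.2⟩
  have C13 : ∀ g g', Commute (φ g) (φ3 g') := commute_hom fun t u => by
    rw [(hφ t).1, (hφ t).2, (hupper3 u).1, (hupper3 u).2]
    exact ⟨(hcr 89 107 (by simp) (by simp) (by norm_num) (by norm_num) (by norm_num) _ _).1,
      (hcr 89 107 (by simp) (by simp) (by norm_num) (by norm_num) (by norm_num) _ _).2.1,
      (hcr 89 107 (by simp) (by simp) (by norm_num) (by norm_num) (by norm_num) _ _).2.2.1,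
      (hcr 89 107 (by simp) (by simp) (by norm_num) (by norm_num) (by norm_num) _ _).2.2.2⟩
  set G := φ M * φ2 M * φ3 M with hG
  set A := φ (scaleHom k hk0 (Matrix.SpecialLinearGroup.map σQ M)) with hA
  have hFG : Fr G = φ2 M * φ3 M * A := by
    rw [hG, map_mul, map_mul, hA]
    exact congrArg (fun z => φ2 M * φ3 M * z) (DFunLike.congr_fun hthree M)
  obtain ⟨d, hd, hdn⟩ := hdiag a ha
  have hFGG : Fr G * G⁻¹ = d * nProd checked_E7 L reflWord := by
    rw [← hdn, ← hM, hFG, hG, map_mul φ, map_inv φ, ← hA]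
    have d2 := (C12 M M).eq
    have d3 := (C13 M M).eq
    have e2 := (C12 (scaleHom k hk0 (Matrix.SpecialLinearGroup.map σQ M) * M⁻¹) M).eq
    have e3 := (C13 (scaleHom k hk0 (Matrix.SpecialLinearGroup.map σQ M) * M⁻¹) M).eq
    rw [map_mul φ, map_inv φ, ← hA] at e2 e3
    calc φ2 M * φ3 M * A * (φ M * φ2 M * φ3 M)⁻¹
        = φ2 M * φ3 M * A * (φ2 M * φ3 M * φ M)⁻¹ := by
          rw [d2, mul_assoc (φ2 M) (φ M), d3, ← mul_assoc]
      _ = φ2 M * (φ3 M * (A * (φ M)⁻¹)) * (φ3 M)⁻¹ * (φ2 M)⁻¹ := by group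
      _ = φ2 M * (A * (φ M)⁻¹) * (φ2 M)⁻¹ := by rw [← e3]; group
      _ = A * (φ M)⁻¹ := by rw [← e2]; group
  have hrange : ∀ g, φ g ∈ chevE7.group L := by
    intro g
    have : g ∈ Subgroup.closure (Set.range (upper (F := L)) ∪ {wElt}) := by rw [closure_gens]; trivial
    induction this using Subgroup.closure_induction with
    | mem x hx =>
      rcases hx with ⟨u, rfl⟩ | hx
      · rw [(hφ u).1]; exact xr_mem (by decide) _
      · rw [Set.mem_singleton_iff] at hx
        have e1 : (wElt : SL(2, L)) = upper 1 * lower (-1) * upper 1 := by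
          refine sl_ext ?_ ?_ ?_ ?_ <;> simp [mul_entry, upper_entries, lower_entries, wElt_entries]
        rw [hx, e1, map_mul, map_mul, (hφ _).1, (hφ _).2]
        exact mul_mem (mul_mem (xr_mem (by decide) _) (xr_mem (Checked.ng_lt (by decide)) _)) (xr_mem (by decide) _)
    | one => rw [map_one]; exact one_mem _
    | mul x y _ _ hx hy => rw [map_mul]; exact mul_mem hx hy
    | inv x _ hx => rw [map_inv]; exact inv_mem hx
  have hg6G : g6 ∈ chevE7.group L := glMap_group_le ι (Subgroup.mem_map_of_mem _ hg0)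
  have hhelG : hel ∈ chevE7.group L :=
    e6 ▸ mul_mem (glMap_group_le σ (Subgroup.mem_map_of_mem _ hg6G)) (inv_mem hg6G)
  have hFrG : ∀ y ∈ chevE7.group L, Fr y ∈ chevE7.group L := fun y hy => by
    rw [hFr, frob_apply]
    exact mul_mem (mul_mem (inv_mem hhelG) (glMap_group_le σ (Subgroup.mem_map_of_mem _ hy))) hhelG
  have hGmem : G ∈ chevE7.group L :=
    mul_mem (mul_mem (hrange M) (hFrG _ (hrange M))) (hFrG _ (hFrG _ (hrange M)))
  refine ⟨G * g6, mul_mem hGmem hg6G, ?_⟩
  have hW : IsWord chevE7 [0, 1, 2, 3, 4, 5] := by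
    intro i hi; simp only [List.mem_cons, List.not_mem_nil, or_false] at hi; show i < 7; omega
  obtain ⟨d', hd', ed⟩ := hh7.nProd_conj_diag hW hd
  have hcD : torusHom chevE7 L c ∈ chevE7.diagonalSubgroup L := by rw [hh7.diagonalSubgroup_eq]; exact ⟨_, rfl⟩
  refine ⟨torusHom chevE7 L c * d', mul_mem hcD hd', ?_⟩
  have hFG' : glMap chevE7 σ G = hel * Fr G * hel⁻¹ := by rw [hFr, frob_apply]; group
  calc glMap chevE7 σ (G * g6) * (G * g6)⁻¹ = glMap chevE7 σ G * (glMap chevE7 σ g6 * g6⁻¹) * G⁻¹ := by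
        rw [map_mul]; group
    _ = hel * (Fr G * G⁻¹) := by rw [e6, hFG']; group
    _ = torusHom chevE7 L c * (nProd checked_E7 L [0, 1, 2, 3, 4, 5] * d) * nProd checked_E7 L reflWord := by
        rw [hFGG, hhel]; group
    _ = _ := by
        rw [ed, show twistWord = [0, 1, 2, 3, 4, 5] ++ reflWord from rfl, nProd_append]; group

end Cfsg.Agent.Lib.E7Twist
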