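import Cfsg.Agent.Lib.E7Twist.Coxeter
import Cfsg.Agent.Lib.ChevMinuscule.E7

/-!
Torus elements of the simply connected group of type E7 inside pairs of matrices on the module of dimension 56 and
the adjoint module, and the descent of twisted fixed points.
-/

set_option autoImplicit false

namespace Cfsg.Agent.Lib.E7Twist.Cover

open Cfsg.Lie Cfsg.Agent.Lib.Chev Cfsg.Agent.Lib.ChevField Cfsg.Agent.Lib.H59.Homocyclic
open Cfsg.Agent.Lib.Schur Cfsg.Agent.Lib.Schur.ChevLift Cfsg.Agent.Lib.ChevMinuscule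
open scoped Matrix

universe u v

/-- Pairs of matrices. -/
abbrev Pairs (K : Type v) [Field K] := GL (Fin 56) K × GL chevE7.Idx K

/-- The pairs of root elements. -/
noncomputable def pairX (K : Type v) [Field K] (r : ℕ) (t : K) : Pairs K :=
  if hr : r < chevE7.nroots then (minuscOK_E7.gen K r t, xGL checked_E7 K hr t) else 1

/-- The group generated by the pairs. -/
noncomputable def pairGroup (K : Type v) [Field K] : Subgroup (Pairs K) := genX (pairX K) {r | r < chevE7.nroots}

variable {K : Type v} [Field K]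

theorem pairX_snd {r : ℕ} (hr : r < chevE7.nroots) (t : K) :
    (((pairX K r t).2 : GL chevE7.Idx K) : Matrix chevE7.Idx chevE7.Idx K) = chevE7.x K r t := by
  rw [pairX, dif_pos hr]; rfl

theorem pairX_fst {r : ℕ} (hr : r < chevE7.nroots) (t : K) : (pairX K r t).1 = minuscOK_E7.gen K r t := by
  rw [pairX, dif_pos hr]

theorem word_fst : ∀ w : List (ℕ × K), (∀ x ∈ w, x.1 < chevE7.nroots) → (wordX (pairX K) w).1 =
    FreeGroup.lift (fun p : Fin chevE7.nroots × K => minuscOK_E7.gen K p.1 p.2) (chevE7.stWord w)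
  | [], _ => by simp [wordX, ChevalleyDatum.stWord]
  | x :: w, hw => by
    have ih := word_fst w fun a ha => hw a (List.mem_cons_of_mem _ ha)
    simp only [wordX, ChevalleyDatum.stWord, List.map_cons, List.prod_cons, Prod.fst_mul, map_mul] at ih ⊢
    rw [pairX_fst (hw x List.mem_cons_self), ih, minuscOK_E7.lift_stX (hw x List.mem_cons_self)]

theorem word_snd : ∀ w : List (ℕ × K), (∀ x ∈ w, x.1 < chevE7.nroots) →
    (((wordX (pairX K) w).2 : GL chevE7.Idx K) : Matrix chevE7.Idx chevE7.Idx K) = chevE7.wordMat K w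
  | [], _ => by simp [wordX, ChevalleyDatum.wordMat]
  | x :: w, hw => by
    have ih := word_snd w fun a ha => hw a (List.mem_cons_of_mem _ ha)
    simp only [wordX, ChevalleyDatum.wordMat, List.map_cons, List.prod_cons, Prod.snd_mul, Units.val_mul] at ih ⊢
    rw [pairX_snd (hw x List.mem_cons_self), ih]

theorem pairX_comm {r s : ℕ} (hr : r < chevE7.nroots) (hs : s < chevE7.nroots) (h1 : s ≠ r)
    (h2 : s ≠ ng chevE7 r) : RelPair chevE7 (pairX K) r s := by
  intro t u
  have hw : ∀ x ∈ chevE7.commWord K r s t u, x.1 < chevE7.nroots := by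
    intro x hx
    rw [checked_E7.commWord_eq hr hs] at hx
    obtain ⟨c, hc, rfl⟩ := List.mem_map.1 hx
    exact checked_E7.cTerms_lt hr hs c hc
  refine Prod.ext ?_ (Units.ext ?_)
  · obtain ⟨ψ, hψ⟩ := minuscOK_E7.exists_rep (F := K)
    set g := (chevE7.stX s u)⁻¹ * (chevE7.stX r t)⁻¹ * chevE7.stX s u * chevE7.stX r t *
      (chevE7.stWord (chevE7.commWord K r s t u))⁻¹ with hg
    have hrel : g ∈ chevE7.steinbergRels K :=
      Or.inl (Or.inr ⟨r, s, t, u, hr, hs, h1, by rwa [checked_E7.neg_eq hr], rfl⟩)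
    have e := hψ g
    rw [PresentedGroup.one_of_mem hrel, map_one, hg] at e
    simp only [map_mul, map_inv, minuscOK_E7.lift_stX hr, minuscOK_E7.lift_stX hs] at e
    rw [eq_mul_inv_iff_mul_eq, one_mul] at e
    simp only [Prod.fst_mul, pairX_fst hr, pairX_fst hs, word_fst _ hw, e]
    group
  · simp only [Prod.snd_mul, Units.val_mul, pairX_snd hr, pairX_snd hs, word_snd _ hw]
    exact checked_E7.commutator_formula hr hs h1 h2 t u

theorem rootLift_pair :
    RootLift chevE7 E7.cert (MonoidHom.snd (GL (Fin 56) K) (GL chevE7.Idx K)) (pairX K) := by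
  refine PresOK.rootLift (P := ⟨⟨checked_E7, descent_E7⟩, etaSimple_of_ok etaS_E7, psi_E7, iso_E7⟩)
    ⟨fun r hr t => pairX_snd hr t, fun r hr t u => ?_⟩ (fun r hr s hs h1 h2 => pairX_comm hr hs h1 h2)
  refine Prod.ext (Units.ext ?_) (Units.ext ?_)
  · simp only [Prod.fst_mul, Units.val_mul, pairX_fst hr, minuscOK_E7.coe_gen hr, mul_add, add_mul, mul_one,
      one_mul, smul_mul_assoc, mul_smul_comm, smul_smul, minuscOK_E7.sq hr, smul_zero, add_smul]
    abel
  · simp only [Prod.snd_mul, Units.val_mul, pairX_snd hr, checked_E7.x_add hr]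

/-- Pairs mapped along a homomorphism of fields. -/
def pairMap {F : Type u} [Field F] (f : F →+* K) : Pairs F →* Pairs K :=
  MonoidHom.prodMap (Units.map (RingHom.mapMatrix f).toMonoidHom) (glMap chevE7 f)

theorem pairMap_X {F : Type u} [Field F] (f : F →+* K) {r : ℕ} (hr : r < chevE7.nroots) (t : F) :
    pairMap f (pairX F r t) = pairX K r (f t) := by
  rw [pairX, pairX, dif_pos hr, dif_pos hr]
  refine Prod.ext (Units.ext ?_) (glMap_xGL checked_E7 f hr t)
  show ((minuscOK_E7.gen F r t : GL (Fin 56) F) : Matrix (Fin 56) (Fin 56) F).map f = _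
  rw [minuscOK_E7.coe_gen hr, minuscOK_E7.coe_gen hr]
  ext i j
  simp only [Matrix.map_apply, Matrix.add_apply, Matrix.smul_apply, emat, colMat, Matrix.of_apply, smul_eq_mul,
    map_add, map_mul, coefC, sgnC]
  by_cases h : i = j <;> simp [h, Matrix.one_apply] <;> split_ifs <;> simp

theorem pairMap_group {F : Type u} [Field F] (f : F →+* K) : (pairGroup F).map (pairMap f) ≤ pairGroup K := by
  rw [pairGroup, genX, MonoidHom.map_closure, Subgroup.closure_le]
  rintro _ ⟨_, ⟨r, hr, t, rfl⟩, rfl⟩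
  rw [pairMap_X f hr]
  exact X_mem_genX _ (S := {r | r < chevE7.nroots}) hr _

theorem exists_pair {x : GL chevE7.Idx K} (hx : x ∈ chevE7.group K) : ∃ p ∈ pairGroup K, p.2 = x := by
  have h : (pairGroup K).map (MonoidHom.snd _ _) = chevE7.group K := by
    rw [pairGroup, genX, MonoidHom.map_closure, ChevalleyDatum.group]
    congr 1
    ext g
    constructor
    · rintro ⟨_, ⟨r, hr, t, rfl⟩, rfl⟩
      refine ⟨⟨r, hr⟩, t, ?_⟩
      rw [MonoidHom.coe_snd, pairX_snd hr, ChevalleyDatum.x, dif_pos (show r < chevE7.nroots from hr)]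
    · rintro ⟨r, t, e⟩
      refine ⟨_, ⟨r.val, r.isLt, t, rfl⟩, Units.ext ?_⟩
      rw [MonoidHom.coe_snd, pairX_snd r.isLt, ChevalleyDatum.x, dif_pos r.isLt, e]
  rw [← h] at hx
  obtain ⟨p, hp, e⟩ := hx
  exact ⟨p, hp, e⟩

theorem nX_mem {j : ℕ} (hj : j < chevE7.rank) (a : K) : nX chevE7 (pairX K) j a ∈ pairGroup K := by
  have hp : chevE7.simple j < chevE7.nroots := checked_E7.simple_lt hj
  refine wordX_mem_genX _ _ fun x hx => ?_
  simp only [List.mem_cons, List.not_mem_nil, or_false] at hx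
  rcases hx with rfl | rfl | rfl
  exacts [hp, Checked.ng_lt hp, hp]

section Torus

variable {M : ℕ} (z : Multiplicative (ZMod M) →* Kˣ)

/-- The weights of the module of dimension 56. -/
def wgt (j k : ℕ) : ℤ := wgtM chevE7 56 tableE7 (chevE7.simple j) k

/-- The character of a coordinate of the module. -/
def wtVal (k : Fin 56) : (Fin chevE7.rank → ZMod M) →+ ZMod M where
  toFun lam := ∑ j : Fin chevE7.rank, (wgt j.val k.val : ZMod M) * lam j
  map_zero' := by simp
  map_add' a b := by simp [mul_add, Finset.sum_add_distrib]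

theorem wtVal_single (k : Fin 56) (j : Fin chevE7.rank) (x : ZMod M) :
    wtVal k (Pi.single j x) = wgt j.val k.val • x := by
  simp only [wtVal, AddMonoidHom.coe_mk, ZeroHom.coe_mk]
  rw [Finset.sum_eq_single j (fun i _ hi => by simp [hi]) (fun h => absurd (Finset.mem_univ j) h)]
  simp [zsmul_eq_mul]

/-- The torus on the module of dimension 56. -/
def torSmall : Multiplicative (Fin chevE7.rank → ZMod M) →* GL (Fin 56) K :=
  (Units.map (Matrix.diagonalRingHom (Fin 56) K).toMonoidHom).comp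
    (MulEquiv.piUnits.symm.toMonoidHom.comp
      (Pi.monoidHom fun k => z.comp (AddMonoidHom.toMultiplicative (wtVal k))))

theorem coe_torSmall (lam : Fin chevE7.rank → ZMod M) :
    ((torSmall z (Multiplicative.ofAdd lam) : GL (Fin 56) K) : Matrix (Fin 56) (Fin 56) K) =
      Matrix.diagonal fun k => ((z (Multiplicative.ofAdd (wtVal k lam)) : Kˣ) : K) := rfl

/-- The torus in the pairs. -/
def torPair : Multiplicative (Fin chevE7.rank → ZMod M) →* Pairs K :=
  MonoidHom.prod (torSmall z) ((tor z).comp (AddMonoidHom.toMultiplicative (iota chevE7 (ZMod M)).toAddMonoidHom))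

theorem torPair_snd (lam : Fin chevE7.rank → ZMod M) :
    (torPair z (Multiplicative.ofAdd lam)).2 = tor z (Multiplicative.ofAdd (iota chevE7 (ZMod M) lam)) := rfl

theorem torPair_single (j : Fin chevE7.rank) (x : ZMod M) :
    torPair z (Multiplicative.ofAdd (Pi.single j x)) =
      hX chevE7 (pairX K) j.val ((z (Multiplicative.ofAdd x) : Kˣ) : K) := by
  set c := z (Multiplicative.ofAdd x)
  have L := rootLift_pair (K := K)
  have hp : chevE7.simple j.val < chevE7.nroots := checked_E7.simple_lt j.isLt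
  have ho : ng chevE7 (chevE7.simple j.val) < chevE7.nroots := Checked.ng_lt hp
  refine Prod.ext (Units.ext ?_) (Units.ext ?_)
  · have e : hX chevE7 (pairX K) j.val (c : K) = wordX (pairX K) (chevE7.hWord (chevE7.simple j.val) (c : K)) := by
      simp [hX, nX, wordX, ChevalleyDatum.hWord, ChevalleyDatum.nWord, checked_E7.neg_eq hp, mul_assoc]
    have e2 : (chevE7.stWord (chevE7.hWord (chevE7.simple j.val) (c : K))) = chevE7.stH (chevE7.simple j.val) (c : K) :=
      rfl
    rw [e, word_fst _ (by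
      simp [ChevalleyDatum.hWord, ChevalleyDatum.nWord, checked_E7.neg_eq hp, hp, ho]), e2,
      minuscOK_E7.lift_stH hp c.ne_zero]
    show ((torSmall z (Multiplicative.ofAdd (Pi.single j x)) : GL (Fin 56) K) : Matrix (Fin 56) (Fin 56) K) = _
    rw [coe_torSmall]
    refine congrArg Matrix.diagonal (funext fun k => ?_)
    rw [wtVal_single, ofAdd_zsmul, map_zpow, Units.val_zpow_eq_zpow_val]
    rfl
  · have e := L.map_hX j.isLt (c : K)
    rw [MonoidHom.coe_snd] at e
    rw [e, L.rooted.hMat_simple_torus j.isLt, torPair_snd, tor_iota]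
    refine congrArg (fun g : GL chevE7.Idx K => (g : Matrix chevE7.Idx chevE7.Idx K)) (torusHom_congr fun i hi => ?_)
    rw [zcoord, dif_pos hi]
    by_cases h : i = j.val
    · subst h; simp [c]
    · rw [Pi.single_eq_of_ne (fun e => h (congrArg Fin.val e)), Pi.mulSingle_eq_of_ne h, ofAdd_zero, map_one]

theorem map_eq_prod_single {G : Type*} [Monoid G] (φ : Multiplicative (Fin chevE7.rank → ZMod M) →* G)
    (lam : Fin chevE7.rank → ZMod M) :
    φ (Multiplicative.ofAdd lam) = (List.ofFn fun j : Fin chevE7.rank =>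
      φ (Multiplicative.ofAdd (Pi.single j (lam j)))).prod := by
  show _ = (List.ofFn (φ ∘ fun j : Fin chevE7.rank =>
    Multiplicative.ofAdd (Pi.single j (lam j) : Fin chevE7.rank → ZMod M))).prod
  rw [← List.map_ofFn, ← map_list_prod, List.prod_ofFn, ← ofAdd_sum, Finset.univ_sum_single]

theorem torPair_mem (lam : Fin chevE7.rank → ZMod M) : torPair z (Multiplicative.ofAdd lam) ∈ pairGroup K := by
  rw [map_eq_prod_single (torPair z)]
  refine list_prod_mem fun p hp => ?_
  obtain ⟨j, rfl⟩ := List.mem_ofFn.1 hp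
  rw [torPair_single]
  exact mul_mem (nX_mem j.isLt _) (nX_mem j.isLt _)

/-- The pair lifting the product of `n`'s of a word. -/
noncomputable def nPair (K : Type v) [Field K] (L : List ℕ) : Pairs K :=
  (L.map fun i => nX chevE7 (pairX K) i 1).prod

theorem nX_conj_torPair {j : ℕ} (hj : j < 7) (lam : Fin chevE7.rank → ZMod M) :
    nX chevE7 (pairX K) j 1 * torPair z (Multiplicative.ofAdd lam) * (nX chevE7 (pairX K) j 1)⁻¹ =
      torPair z (Multiplicative.ofAdd ((reflMat chevE7 E7.cert j).map (Int.castRingHom (ZMod M)) *ᵥ lam)) := by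
  let A := (MulAut.conj (nX chevE7 (pairX K) j 1)).toMonoidHom.comp (torPair z)
  let B := (torPair z).comp (AddMonoidHom.toMultiplicative
    (Matrix.mulVecLin ((reflMat chevE7 E7.cert j).map (Int.castRingHom (ZMod M)))).toAddMonoidHom)
  suffices h : ∀ lam, A (Multiplicative.ofAdd lam) = B (Multiplicative.ofAdd lam) from h lam
  intro lam
  rw [map_eq_prod_single A lam, map_eq_prod_single B lam]
  congr 2
  funext i
  show nX chevE7 (pairX K) j 1 * torPair z (Multiplicative.ofAdd (Pi.single i (lam i))) * (nX chevE7 (pairX K) j 1)⁻¹ =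
    torPair z (Multiplicative.ofAdd ((reflMat chevE7 E7.cert j).map (Int.castRingHom (ZMod M)) *ᵥ Pi.single i (lam i)))
  set x := lam i
  have hjr : j < chevE7.rank := hj
  have e : (reflMat chevE7 E7.cert j).map (Int.castRingHom (ZMod M)) *ᵥ Pi.single i x =
      -Pi.single (⟨j, hjr⟩ : Fin chevE7.rank) (chevE7.cartan i.val (chevE7.simple j) • x) + Pi.single i x := by
    funext a
    rw [Matrix.mulVec_single]
    simp only [Pi.smul_apply, Matrix.col_apply, Matrix.map_apply, reflMat, Matrix.of_apply, Int.coe_castRingHom,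
      MulOpposite.smul_eq_mul_unop, MulOpposite.unop_op, Int.cast_sub, sub_mul, Pi.add_apply, Pi.neg_apply]
    rw [checked_E7.cm_eq hjr i.isLt, sub_eq_add_neg, add_comm]
    congr 1
    · by_cases h : a.val = j
      · rw [if_pos h, show a = ⟨j, hjr⟩ from Fin.ext h, Pi.single_eq_same, zsmul_eq_mul]
      · rw [if_neg h, Pi.single_eq_of_ne (fun e => h (congrArg Fin.val e))]; simp
    · by_cases h : a = i
      · subst h; simp
      · simp [h]
  rw [e, ofAdd_add, map_mul, ofAdd_neg, map_inv, torPair_single, torPair_single, ofAdd_zsmul, map_zpow]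
  exact (rootLift_pair (K := K)).nX_hX i.isLt hjr _

theorem nPair_conj_torPair : ∀ {L : List ℕ}, (∀ i ∈ L, i < 7) → ∀ lam : Fin chevE7.rank → ZMod M,
    nPair K L * torPair z (Multiplicative.ofAdd lam) * (nPair K L)⁻¹ =
      torPair z (Multiplicative.ofAdd ((matW L).map (Int.castRingHom (ZMod M)) *ᵥ lam))
  | [], _, lam => by simp [nPair, matW]
  | i :: L, hL, lam => by
    rw [matW, List.map_cons, List.prod_cons, Matrix.map_mul, ← Matrix.mulVec_mulVec, ← matW,
      ← nX_conj_torPair z (hL i List.mem_cons_self),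
      ← nPair_conj_torPair (fun j hj => hL j (List.mem_cons_of_mem _ hj)),
      nPair, List.map_cons, List.prod_cons, ← nPair]
    group

theorem nPair_mem_snd : ∀ {L : List ℕ}, (∀ i ∈ L, i < 7) →
    nPair K L ∈ pairGroup K ∧ (nPair K L).2 = nProd checked_E7 K L
  | [], _ => ⟨one_mem _, by simp [nPair, nProd]⟩
  | i :: L, hL => by
    obtain ⟨h1, h2⟩ := nPair_mem_snd (L := L) fun j hj => hL j (List.mem_cons_of_mem _ hj)
    have hi : i < chevE7.rank := hL i List.mem_cons_self
    refine ⟨?_, ?_⟩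
    · rw [nPair, List.map_cons, List.prod_cons, ← nPair]
      exact mul_mem (nX_mem hi 1) h1
    · rw [nPair, List.map_cons, List.prod_cons, ← nPair, Prod.snd_mul, h2, nProd_cons]
      congr 1
      refine Units.ext ?_
      rw [coe_nS checked_E7 hi, ← (rootLift_pair (K := K)).map_nX hi 1]
      rfl

/-- A left inverse for seven of the weights. -/
def wgtInv : List (List ℤ) :=
  [[1, 1, 1, 1, -1, -1, -2], [0, 0, 0, 0, 1, 1, 1], [1, 1, 1, 1, 0, -1, -1], [1, 1, 1, 1, 0, 0, 0],
    [1, 1, 1, 0, 0, 0, 0], [1, 1, 0, 0, 0, 0, 0], [1, 0, 0, 0, 0, 0, 0]]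

/-- The seven chosen coordinates. -/
def wgtSel : List (Fin 56) := [0, 1, 2, 3, 4, 6, 9]

theorem wgt_inv_ok : ∀ i j : Fin 7, ∑ k : Fin 7, (wgtInv.getD i.val []).getD k.val 0 *
    wgt j.val (wgtSel.getD k.val 0).val = if i = j then 1 else 0 := by
  decide +kernel

variable {z}

theorem torPair_injective (hz : Function.Injective z) : Function.Injective (torPair (K := K) z) := by
  rw [injective_iff_map_eq_one]
  intro a ha
  have h : ∀ k, wtVal k a.toAdd = 0 := by
    intro k
    have e := congrArg (fun g : Pairs K => (g.1 : Matrix (Fin 56) (Fin 56) K) k k) ha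
    rw [← ofAdd_toAdd a] at e
    simp only [torPair, MonoidHom.prod_apply, coe_torSmall, Matrix.diagonal_apply_eq, Prod.fst_one, Units.val_one,
      Matrix.one_apply_eq, Units.val_eq_one] at e
    exact Multiplicative.ofAdd.injective (hz (e.trans (map_one z).symm))
  refine Multiplicative.toAdd.injective (funext fun i => ?_)
  have hs : ∑ k : Fin 7, ((wgtInv.getD i.val []).getD k.val 0 : ZMod M) * wtVal (wgtSel.getD k.val 0) a.toAdd = 0 :=
    Finset.sum_eq_zero fun k _ => by rw [h, mul_zero]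
  simp only [wtVal, AddMonoidHom.coe_mk, ZeroHom.coe_mk, Finset.mul_sum] at hs
  rw [Finset.sum_comm] at hs
  rw [Finset.sum_eq_single i] at hs
  · rw [toAdd_one, Pi.zero_apply, ← hs]
    rw [← Finset.sum_congr rfl fun k _ => mul_assoc _ _ _, ← Finset.sum_mul]
    have := congrArg (fun n : ℤ => (n : ZMod M)) ((wgt_inv_ok i i).trans (if_pos rfl))
    simp only [Int.cast_sum, Int.cast_mul, Int.cast_one] at this
    rw [this, one_mul]
  · intro j _ hj
    rw [← Finset.sum_congr rfl fun k _ => mul_assoc _ _ _, ← Finset.sum_mul]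
    have := congrArg (fun n : ℤ => (n : ZMod M)) ((wgt_inv_ok i j).trans (if_neg (fun e => hj e.symm)))
    simp only [Int.cast_sum, Int.cast_mul, Int.cast_zero] at this
    rw [this, zero_mul]
  · exact fun hn => absurd (Finset.mem_univ i) hn

theorem exists_of_ker (hz : Function.Injective z) (hzs : Function.Surjective z) {p : Pairs K}
    (hp : p ∈ pairGroup K) (h2 : p.2 = 1) :
    ∃ k : Fin chevE7.rank → ZMod M, p = torPair z (Multiplicative.ofAdd k) ∧ iota chevE7 (ZMod M) k = 0 := by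
  have ht := (rootLift_pair (K := K)).ker_le_torus hp h2
  have hle : torus chevE7 (pairX K) ≤ (torPair z).range := by
    refine (Subgroup.closure_le _).2 ?_
    rintro _ ⟨i, hi, c, rfl⟩
    obtain ⟨a, rfl⟩ := hzs c
    refine ⟨Multiplicative.ofAdd (Pi.single (⟨i, hi⟩ : Fin chevE7.rank) a.toAdd), ?_⟩
    rw [torPair_single, ofAdd_toAdd]
  obtain ⟨k, rfl⟩ := hle ht
  refine ⟨k.toAdd, by rw [ofAdd_toAdd], ?_⟩
  have e : tor (D := chevE7) z (Multiplicative.ofAdd (iota chevE7 (ZMod M) k.toAdd)) = 1 := by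
    rw [← torPair_snd z, ofAdd_toAdd]; exact h2
  exact Multiplicative.ofAdd.injective
    ((tor_injective hz (e.trans (map_one _).symm)).trans ofAdd_zero.symm)

theorem pairMap_torPair (σ : K →+* K) (q : ℕ) (hσ : ∀ x, σ x = x ^ q) (lam : Fin chevE7.rank → ZMod M) :
    pairMap σ (torPair z (Multiplicative.ofAdd lam)) = torPair z (Multiplicative.ofAdd ((q : ZMod M) • lam)) := by
  refine Prod.ext (Units.ext ?_) ?_
  · show (((torSmall z (Multiplicative.ofAdd lam)) : GL (Fin 56) K) : Matrix (Fin 56) (Fin 56) K).map σ = _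
    rw [coe_torSmall, Matrix.diagonal_map (map_zero σ)]
    show _ = (((torSmall z (Multiplicative.ofAdd ((q : ZMod M) • lam))) : GL (Fin 56) K) : Matrix (Fin 56) (Fin 56) K)
    rw [coe_torSmall]
    congr 1
    funext m
    show σ _ = _
    rw [hσ, ← Units.val_pow_eq_pow_val, ← map_pow, ← ofAdd_nsmul, ← map_nsmul, Nat.cast_smul_eq_nsmul]
  · show glMap chevE7 σ (torPair z (Multiplicative.ofAdd lam)).2 = _
    rw [torPair_snd, torPair_snd, glMap_tor z σ q hσ, (iota chevE7 (ZMod M)).map_smul]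

theorem pairMap_comp {F : Type u} [Field F] (f : F →+* K) (σ : K →+* K) (hσf : ∀ a, σ (f a) = f a) (p : Pairs F) :
    pairMap σ (pairMap f p) = pairMap f p := by
  have e : σ.comp f = f := RingHom.ext hσf
  refine Prod.ext (Units.ext ?_) ((glMap_glMap f σ p.2).trans (by rw [e]; rfl))
  show ((p.1 : Matrix (Fin 56) (Fin 56) F).map f).map σ = (p.1 : Matrix (Fin 56) (Fin 56) F).map f
  rw [Matrix.map_map, ← RingHom.coe_comp, e]

variable (hz : Function.Injective z) (hzs : Function.Surjective z)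

include hz hzs

theorem exists_lift {F : Type u} [Field F] (σ : K →+* K)
    (hdiag : ∀ t ∈ chevE7.diagonalSubgroup K, ∃ mu, tor z (Multiplicative.ofAdd (iota chevE7 (ZMod M) mu)) = t)
    {g t' : GL chevE7.Idx K} (hg : g ∈ chevE7.group K) (ht : t' ∈ chevE7.diagonalSubgroup K)
    (hhel : glMap chevE7 σ g * g⁻¹ = t' * nProd checked_E7 K twistWord) :
    ∃ gp ∈ pairGroup K, gp.2 = g ∧ ∀ lam : Fin chevE7.rank → ZMod M,
      pairMap σ gp * gp⁻¹ * torPair z (Multiplicative.ofAdd lam) * (pairMap σ gp * gp⁻¹)⁻¹ =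
        torPair z (Multiplicative.ofAdd (twistMat.map (Int.castRingHom (ZMod M)) *ᵥ lam)) := by
  obtain ⟨gp, hgp, rfl⟩ := exists_pair hg
  obtain ⟨mu, rfl⟩ := hdiag _ ht
  obtain ⟨hnG, hn2⟩ := nPair_mem_snd (K := K) twistWord_lt
  set h := pairMap σ gp * gp⁻¹ with hh
  set k' := h * (torPair z (Multiplicative.ofAdd mu) * nPair K twistWord)⁻¹ with hk'
  have hk'mem : k' ∈ pairGroup K :=
    mul_mem (mul_mem (pairMap_group σ ⟨gp, hgp, rfl⟩) (inv_mem hgp)) (inv_mem (mul_mem (torPair_mem z mu) hnG))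
  have hk'2 : k'.2 = 1 := by
    rw [hk', hh]
    simp only [Prod.snd_mul, Prod.snd_inv, torPair_snd, hn2]
    show glMap chevE7 σ gp.2 * gp.2⁻¹ * _ = 1
    rw [hhel, mul_inv_cancel]
  obtain ⟨k, hk, -⟩ := exists_of_ker hz hzs hk'mem hk'2
  refine ⟨gp, hgp, rfl, fun lam => ?_⟩
  have e : h = torPair z (Multiplicative.ofAdd k) * torPair z (Multiplicative.ofAdd mu) * nPair K twistWord := by
    rw [← hk, hk']; group
  rw [← hh, e]
  set A := torPair z (Multiplicative.ofAdd k) * torPair z (Multiplicative.ofAdd mu) with hA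
  calc A * nPair K twistWord * torPair z (Multiplicative.ofAdd lam) * (A * nPair K twistWord)⁻¹
      = A * (nPair K twistWord * torPair z (Multiplicative.ofAdd lam) * (nPair K twistWord)⁻¹) * A⁻¹ := by group
    _ = _ := by
      rw [nPair_conj_torPair z twistWord_lt, ← twistMat_eq, hA, ← map_mul, ← map_mul, ← map_inv, ← map_mul]
      congr 1
      rw [mul_inv_cancel_comm]

variable {F : Type u} [Field F] (f : F →+* K) (σ : K →+* K) (q : ℕ) (hσ : ∀ x, σ x = x ^ q)
  (hσf : ∀ a, σ (f a) = f a)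
  (hdiag : ∀ t ∈ chevE7.diagonalSubgroup K, ∃ mu, tor z (Multiplicative.ofAdd (iota chevE7 (ZMod M) mu)) = t)
  {g t' : GL chevE7.Idx K} (hg : g ∈ chevE7.group K) (ht : t' ∈ chevE7.diagonalSubgroup K)
  (hhel : glMap chevE7 σ g * g⁻¹ = t' * nProd checked_E7 K twistWord)

include hσ hσf hdiag hg ht hhel

theorem exists_twisted {x : GL chevE7.Idx F} (hx : x ∈ chevE7.group F) {lam : Fin chevE7.rank → ZMod M}
    (hlam : g * glMap chevE7 f x * g⁻¹ = tor z (Multiplicative.ofAdd (iota chevE7 (ZMod M) lam))) :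
    ∃ lam' ∈ twistFix twistMat q M, iota chevE7 (ZMod M) lam' = iota chevE7 (ZMod M) lam := by
  obtain ⟨gp, hgp, rfl, hconj⟩ := exists_lift (F := F) hz hzs σ hdiag hg ht hhel
  obtain ⟨xp, hxp, rfl⟩ := exists_pair hx
  set P := gp * pairMap f xp * gp⁻¹ with hP
  set k := P * (torPair z (Multiplicative.ofAdd lam))⁻¹ with hk
  have hkmem : k ∈ pairGroup K :=
    mul_mem (mul_mem (mul_mem hgp (pairMap_group f ⟨xp, hxp, rfl⟩)) (inv_mem hgp)) (inv_mem (torPair_mem z lam))
  have hk2 : k.2 = 1 := by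
    rw [hk, Prod.snd_mul, Prod.snd_inv, torPair_snd, hP, Prod.snd_mul, Prod.snd_mul, Prod.snd_inv]
    show gp.2 * glMap chevE7 f xp.2 * gp.2⁻¹ * _ = 1
    rw [hlam, mul_inv_cancel]
  obtain ⟨k0, hk0, hk0i⟩ := exists_of_ker hz hzs hkmem hk2
  have hPT : P = torPair z (Multiplicative.ofAdd (k0 + lam)) := by
    rw [ofAdd_add, map_mul, ← hk0, hk, inv_mul_cancel_right]
  have hσP : pairMap σ P = pairMap σ gp * gp⁻¹ * P * (pairMap σ gp * gp⁻¹)⁻¹ := by
    rw [hP, map_mul, map_mul, map_inv, pairMap_comp f σ hσf]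
    group
  rw [hPT, hconj, pairMap_torPair σ q hσ] at hσP
  refine ⟨k0 + lam, ?_, by rw [map_add, hk0i, zero_add]⟩
  rw [mem_twistFix]
  exact (Multiplicative.ofAdd.injective (torPair_injective hz hσP)).symm

theorem mem_image_of_twistFix [Finite K] (hfix : ∀ x, σ x = x → ∃ y, f y = x)
    {lam : Fin chevE7.rank → ZMod M} (hlam : lam ∈ twistFix twistMat q M) :
    g⁻¹ * tor z (Multiplicative.ofAdd (iota chevE7 (ZMod M) lam)) * g ∈ (chevE7.group F).map (glMap chevE7 f) := by
  obtain ⟨gp, hgp, rfl, hconj⟩ := exists_lift (F := F) hz hzs σ hdiag hg ht hhel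
  set y := gp⁻¹ * torPair z (Multiplicative.ofAdd lam) * gp with hy
  have hymem : y ∈ pairGroup K := mul_mem (mul_mem (inv_mem hgp) (torPair_mem z lam)) hgp
  have hyfix : pairMap σ y = y := by
    have e := hconj lam
    rw [mem_twistFix.1 hlam] at e
    rw [hy, map_mul, map_mul, map_inv, pairMap_torPair σ q hσ, ← e]
    group
  have hy2 : y.2 = gp.2⁻¹ * tor z (Multiplicative.ofAdd (iota chevE7 (ZMod M) lam)) * gp.2 := by
    rw [hy, Prod.snd_mul, Prod.snd_mul, Prod.snd_inv, torPair_snd]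
  rw [← hy2]
  have hyG : y.2 ∈ chevE7.group K := by
    rw [hy2]
    exact mul_mem (mul_mem (inv_mem hg)
      ((Rooted.mk checked_E7 descent_E7).diagonal_le_group (tor_mem checked_E7 ⟨checked_E7, descent_E7⟩ ⟨lam, rfl⟩))) hg
  obtain ⟨v, ⟨v0, hv0, rfl⟩, t, htd, -, hyv⟩ := exists_mul_torus_of_fixed ⟨checked_E7, descent_E7⟩ f σ hσf hfix hyG
    (show glMap chevE7 σ y.2 = y.2 from congrArg Prod.snd hyfix)
  obtain ⟨mu, rfl⟩ := hdiag _ htd
  obtain ⟨vp, hvp, rfl⟩ := exists_pair hv0
  set k := (pairMap f vp)⁻¹ * y * (torPair z (Multiplicative.ofAdd mu))⁻¹ with hk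
  have hkmem : k ∈ pairGroup K :=
    mul_mem (mul_mem (inv_mem (pairMap_group f ⟨vp, hvp, rfl⟩)) hymem) (inv_mem (torPair_mem z mu))
  have hk2 : k.2 = 1 := by
    rw [hk, Prod.snd_mul, Prod.snd_mul, Prod.snd_inv, Prod.snd_inv, torPair_snd, hyv]
    show (glMap chevE7 f vp.2)⁻¹ * _ * _ = 1
    group
  obtain ⟨k0, hk0, hk0i⟩ := exists_of_ker hz hzs hkmem hk2
  set l := k0 + mu with hl
  have hyT : y = pairMap f vp * torPair z (Multiplicative.ofAdd l) := by
    rw [hl, ofAdd_add, map_mul, ← hk0, hk]; group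
  rw [hyT, map_mul, pairMap_comp f σ hσf, pairMap_torPair σ q hσ] at hyfix
  have hlq := Multiplicative.ofAdd.injective (torPair_injective hz (mul_left_cancel hyfix))
  have hex : ∀ i, ∃ e : Fˣ, Units.map f.toMonoidHom e = zcoord z l i := by
    intro i
    by_cases hi : i < chevE7.rank
    · rw [zcoord, dif_pos hi]
      have hl2 : (q : ZMod M) * l ⟨i, hi⟩ = l ⟨i, hi⟩ := congrFun hlq ⟨i, hi⟩
      obtain ⟨b, hb⟩ := hfix ((z (Multiplicative.ofAdd (l ⟨i, hi⟩)) : Kˣ) : K) (by
        rw [hσ, ← Units.val_pow_eq_pow_val, ← map_pow, ← ofAdd_nsmul, nsmul_eq_mul, hl2])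
      have hb0 : b ≠ 0 := by
        rintro rfl
        exact (z (Multiplicative.ofAdd (l ⟨i, hi⟩))).ne_zero (by rw [← hb, map_zero])
      exact ⟨Units.mk0 b hb0, Units.ext hb⟩
    · exact ⟨1, by rw [zcoord, dif_neg hi, map_one]⟩
  choose e he using hex
  have hh : Rooted chevE7 E7.cert := ⟨checked_E7, descent_E7⟩
  refine ⟨vp.2 * torusHom chevE7 F e, mul_mem hv0 (hh.diagonal_le_group (by
    rw [hh.diagonalSubgroup_eq]; exact ⟨e, rfl⟩)), ?_⟩
  rw [map_mul, glMap_torusHom, hyT, Prod.snd_mul, torPair_snd, tor_iota]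
  exact congrArg (glMap chevE7 f vp.2 * ·) (torusHom_congr fun i _ => he i)

end Torus

end Cfsg.Agent.Lib.E7Twist.Cover
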