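import Cfsg.Agent.Lib.E7Twist.Data
import Cfsg.Agent.Lib.Chev.Descent

/-!
Nothing in the Weyl group of type E7 fixes a generator of the twisted fixed points, and no root vanishes on it.
-/

set_option autoImplicit false

namespace Cfsg.Agent.Lib.E7Twist

open Cfsg.Lie Cfsg.Agent.Lib.Chev Cfsg.Agent.Lib.H59.Homocyclic
open scoped Matrix

/-- The coefficient of a value. -/
def vc (s k : ℕ) : ℤ := (valTab.getD s []).getD k 0

/-- The coefficient of a coordinate of a fixed point. -/
def fc (j k : ℕ) : ℤ :=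
  (([[0, -1, 1, 1, -1, 0, 1], [-1, 1, 1, -1, 0, 1, 0], [1, 1, -1, 0, 1, 0, 0], [1, -1, 0, 1, 0, 0, 0],
    [-1, 0, 1, 0, 0, 0, 0], [0, 1, 0, 0, 0, 0, 0], [1, 0, 0, 0, 0, 0, 0]] : List (List ℤ)).getD j []).getD k 0

theorem vc_ok : ∀ s : Fin chevE7.nroots, ∀ k : Fin 7, vc s.val k.val =
    ∑ i : Fin chevE7.rank, chevE7.cartan i.val s.val * ∑ j : Fin chevE7.rank, basisMat i j * fc j.val k.val := by
  decide +kernel

theorem rootVal_eq (s : Fin chevE7.nroots) (q : ℤ) : rootVal s.val q = ∑ k : Fin 7, vc s.val k.val * q ^ k.val := by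
  have hf : ∀ j : Fin chevE7.rank, fixCoord q j = ∑ k : Fin 7, fc j.val k.val * q ^ k.val := by
    intro j
    obtain ⟨j, hj⟩ := j
    change j < 7 at hj
    interval_cases j <;> simp [fixCoord, fc, Fin.sum_univ_seven] <;> ring
  rw [rootVal]
  simp only [hf, vc_ok, Finset.sum_mul, Finset.mul_sum]
  conv_rhs => rw [Finset.sum_comm]
  refine Finset.sum_congr rfl fun i _ => ?_
  conv_rhs => rw [Finset.sum_comm]
  exact Finset.sum_congr rfl fun j _ => Finset.sum_congr rfl fun k _ => by ring

theorem vc_bound : (∀ s : Fin chevE7.nroots, ∀ k : Fin 7, -2 ≤ vc s.val k.val ∧ vc s.val k.val ≤ 2) ∧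
    (∀ s : Fin chevE7.nroots, ∑ k : Fin 7, (vc s.val k.val).natAbs ≤ 6) ∧
    (∀ s : Fin chevE7.nroots, ∃ k : Fin 7, vc s.val k.val ≠ 0) := by decide +kernel

theorem vc_inj : ∀ s t : Fin chevE7.nroots, (∀ k : Fin 7, vc s.val k.val = vc t.val k.val) → s = t := by
  decide +kernel

theorem eq_zero_of_eval {q : ℤ} : ∀ {n : ℕ} (d : ℕ → ℤ), (∀ k < n, |d k| < q) →
    ∑ k ∈ Finset.range n, d k * q ^ k = 0 → ∀ k < n, d k = 0
  | 0, d, _, _, k, hk => absurd hk (Nat.not_lt_zero k)
  | n + 1, d, hb, h, k, hk => by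
    have hq0 : q ≠ 0 := fun e => by
      have := hb 0 (Nat.succ_pos n)
      rw [e] at this
      exact absurd this (not_lt.2 (abs_nonneg _))
    rw [Finset.sum_range_succ', pow_zero, mul_one] at h
    simp only [pow_succ, ← mul_assoc] at h
    rw [← Finset.sum_mul] at h
    have h0 : d 0 = 0 := Int.eq_zero_of_abs_lt_dvd
      ⟨-(∑ j ∈ Finset.range n, d (j + 1) * q ^ j), by linear_combination h⟩ (hb 0 (Nat.succ_pos n))
    rw [h0, add_zero, mul_eq_zero, or_iff_left hq0] at h
    rcases k with _ | k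
    · exact h0
    · exact eq_zero_of_eval (fun j => d (j + 1)) (fun j hj => hb _ (by omega)) h k (by omega)

theorem poly_sep {q : ℕ} (hq : 14 ≤ q) {d : Fin 7 → ℤ} (hd : ∀ k, -4 ≤ d k ∧ d k ≤ 4)
    (hs : ∑ k : Fin 7, (d k).natAbs ≤ 12) (hdvd : (twistOrder q : ℤ) ∣ ∑ k : Fin 7, d k * (q : ℤ) ^ k.val) :
    ∀ k, d k = 0 := by
  have hz : ∑ k : Fin 7, d k * (q : ℤ) ^ k.val = 0 := by
    refine Int.eq_zero_of_abs_lt_dvd hdvd ?_
    have h1 : |∑ k : Fin 7, d k * (q : ℤ) ^ k.val| ≤ 12 * (q : ℤ) ^ 6 := by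
      refine (Finset.abs_sum_le_sum_abs _ _).trans ?_
      have hs' : ∑ k : Fin 7, |d k| ≤ 12 := by
        simp only [← Int.natCast_natAbs]
        exact_mod_cast hs
      refine le_trans ?_ (mul_le_mul_of_nonneg_right hs' (by positivity))
      rw [Finset.sum_mul]
      refine Finset.sum_le_sum fun k _ => ?_
      rw [abs_mul, abs_of_nonneg (show (0 : ℤ) ≤ (q : ℤ) ^ k.val by positivity)]
      refine mul_le_mul_of_nonneg_left ?_ (abs_nonneg _)
      exact pow_le_pow_right₀ (by exact_mod_cast (show 1 ≤ q by omega)) (by have := k.isLt; omega)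
    refine h1.trans_lt ?_
    rw [cast_twistOrder]
    have hq' : (14 : ℤ) ≤ q := by exact_mod_cast hq
    nlinarith [pow_le_pow_left₀ (by norm_num) hq' 2, pow_pos (show (0 : ℤ) < q by linarith) 5,
      pow_pos (show (0 : ℤ) < q by linarith) 6, pow_pos (show (0 : ℤ) < q by linarith) 4,
      mul_le_mul_of_nonneg_left hq' (show (0 : ℤ) ≤ (q : ℤ) ^ 6 by positivity),
      mul_le_mul_of_nonneg_left hq' (show (0 : ℤ) ≤ (q : ℤ) ^ 5 by positivity),
      mul_le_mul_of_nonneg_left hq' (show (0 : ℤ) ≤ (q : ℤ) ^ 2 by positivity)]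
  intro k
  have h := eq_zero_of_eval (q := (q : ℤ)) (n := 7) (fun j => if hj : j < 7 then d ⟨j, hj⟩ else 0) (fun j hj => by
    simp only [dif_pos hj]
    have := hd ⟨j, hj⟩
    rw [abs_lt]
    constructor <;> linarith [show (14 : ℤ) ≤ q by exact_mod_cast hq])
    (by rw [Finset.sum_range, ← hz]; simp) k.val k.isLt
  simpa using h

theorem resTab_ok : (resTab.all fun e => (List.range 126).all fun s =>
    decide (((List.range 7).map fun k => vc s k * (e.1 : ℤ) ^ k).sum %
      (((e.1 ^ 4 - e.1 ^ 2 + 1) * (e.1 ^ 3 + 1) : ℕ) : ℤ) = (e.2.getD s 0 : ℕ))) = true ∧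
    (resTab.all fun e => (List.range 126).all fun s => !Nat.beq (e.2.getD s 0) 0 &&
      (List.range 126).all fun t => Nat.beq s t || !Nat.beq (e.2.getD s 0) (e.2.getD t 0)) = true ∧
    ((List.range 11).all fun i => (resTab.map Prod.fst).contains (i + 3)) = true := by decide +kernel

theorem rootVal_small {q : ℕ} (h3 : 3 ≤ q) (h13 : q ≤ 13) :
    (∀ s : Fin chevE7.nroots, ¬ (twistOrder q : ℤ) ∣ rootVal s.val q) ∧
      ∀ s t : Fin chevE7.nroots, (twistOrder q : ℤ) ∣ rootVal s.val q - rootVal t.val q → s = t := by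
  obtain ⟨h1, h2, h4⟩ := resTab_ok
  simp only [List.all_eq_true, List.mem_range, decide_eq_true_eq, Bool.and_eq_true, Bool.or_eq_true,
    Bool.not_eq_true', List.contains_iff_mem, List.mem_map] at h1 h2 h4
  obtain ⟨e, he, heq⟩ := h4 (q - 3) (by omega)
  rw [Nat.sub_add_cancel h3] at heq
  subst heq
  have hv : ∀ s : Fin chevE7.nroots, rootVal s.val e.1 % (twistOrder e.1 : ℤ) = (e.2.getD s.val 0 : ℕ) := by
    intro s
    rw [← h1 e he s.val s.isLt, rootVal_eq, Fin.sum_univ_seven]
    simp [List.range_succ, twistOrder, add_assoc]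
  refine ⟨fun s hs => ?_, fun s t hst => ?_⟩
  · have := (hv s).symm.trans (Int.emod_eq_zero_of_dvd hs)
    rw [Nat.cast_eq_zero] at this
    exact absurd ((h2 e he s.val s.isLt).1) (by rw [this]; decide)
  · have := (hv s).symm.trans ((Int.emod_eq_emod_iff_emod_sub_eq_zero.2 (Int.emod_eq_zero_of_dvd hst)).trans (hv t))
    rw [Nat.cast_inj] at this
    rcases (h2 e he s.val s.isLt).2 t.val t.isLt with h | h
    · exact Fin.ext (Nat.eq_of_beq_eq_true h)
    · rw [this, Nat.beq_refl] at h; cases h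

theorem rootVal_sep {q : ℕ} (h3 : 3 ≤ q) :
    (∀ s : Fin chevE7.nroots, ¬ (twistOrder q : ℤ) ∣ rootVal s.val q) ∧
      ∀ s t : Fin chevE7.nroots, (twistOrder q : ℤ) ∣ rootVal s.val q - rootVal t.val q → s = t := by
  by_cases h13 : q ≤ 13
  · exact rootVal_small h3 h13
  obtain ⟨hb, hl, hne⟩ := vc_bound
  refine ⟨fun s hs => ?_, fun s t hst => ?_⟩
  · obtain ⟨k, hk⟩ := hne s
    rw [rootVal_eq] at hs
    exact hk (poly_sep (by omega) (d := fun k => vc s.val k.val) (fun k => by have := hb s k; omega)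
      (le_trans (hl s) (by norm_num)) hs k)
  · refine vc_inj s t fun k => sub_eq_zero.1 ?_
    rw [rootVal_eq, rootVal_eq, ← Finset.sum_sub_distrib] at hst
    simp only [← sub_mul] at hst
    refine poly_sep (by omega) (d := fun k => vc s.val k.val - vc t.val k.val)
      (fun k => by have := hb s k; have := hb t k; omega) ?_ hst k
    calc ∑ k : Fin 7, (vc s.val k.val - vc t.val k.val).natAbs
        ≤ ∑ k : Fin 7, ((vc s.val k.val).natAbs + (vc t.val k.val).natAbs) :=
          Finset.sum_le_sum fun k _ => Int.natAbs_sub_le _ _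
      _ ≤ _ := by rw [Finset.sum_add_distrib]; have := hl s; have := hl t; omega

/-- The adjacent fundamental roots with their sums. -/
def adjSum : List (ℕ × ℕ × ℕ) := [(0, 2, 94), (1, 3, 79), (2, 3, 74), (3, 4, 70), (4, 5, 67), (5, 6, 65)]

/-- Candidates for the images of the fundamental roots over the field of two elements. -/
def fibre : List (List ℕ) := [[93, 124], [78, 115], [73], [69], [65, 66], [64], [63]]

theorem two_ok : ((List.range 7).all fun i => (List.range 126).all fun s =>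
      !(decide (((∑ k : Fin 7, vc s k.val * (2 : ℤ) ^ k.val) -
        (∑ k : Fin 7, vc (chevE7.simple i) k.val * (2 : ℤ) ^ k.val)) % 117 = 0)) || (fibre.getD i []).contains s) = true ∧
    ((List.range 126).all fun s => !decide ((∑ k : Fin 7, vc s k.val * (2 : ℤ) ^ k.val) % 117 = 0)) = true ∧
    (adjSum.all fun e => (List.range 7).all fun l =>
      decide (chevE7.cartan l e.2.2 = chevE7.cartan l (chevE7.simple e.1) + chevE7.cartan l (chevE7.simple e.2.1))) =
        true := by decide +kernel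

theorem cand_ok : ([93, 124].all fun a => [78, 115].all fun b => [65, 66].all fun c =>
    let img : List ℕ := [a, b, 73, 69, c, 64, 63]
    (List.range 7).all (fun i => Nat.beq (img.getD i 0) (chevE7.simple i)) ||
      adjSum.any fun e => (List.range 126).all fun w => !((List.range 7).all fun l =>
        decide (chevE7.cartan l w = chevE7.cartan l (img.getD e.1 0) + chevE7.cartan l (img.getD e.2.1 0)))) = true := by
  decide +kernel

theorem cartan_act {x : Equiv.Perm (Fin chevE7.nroots)} (hx : x ∈ weyl checked_E7 (Finset.range chevE7.rank))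
    {a b u : Fin chevE7.nroots}
    (h : ∀ l : Fin chevE7.rank, chevE7.cartan l.val u.val = chevE7.cartan l.val a.val + chevE7.cartan l.val b.val)
    (l : Fin chevE7.rank) :
    chevE7.cartan l.val (x⁻¹ u).val = chevE7.cartan l.val (x⁻¹ a).val + chevE7.cartan l.val (x⁻¹ b).val := by
  obtain ⟨X, hX⟩ := exists_weylMat checked_E7 hx
  have hlin : ∀ mu : Fin chevE7.rank → ℤ, iota chevE7 ℤ mu u = iota chevE7 ℤ mu a + iota chevE7 ℤ mu b := by
    intro mu
    simp only [iota_apply, ← Finset.sum_add_distrib, ← add_mul]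
    refine Finset.sum_congr rfl fun j _ => ?_
    rw [h j, Int.cast_add]
  have e := hlin (X.map (Int.castRingHom ℤ) *ᵥ Pi.single l 1)
  rw [hX, act_apply, act_apply, act_apply] at e
  simpa [iota_apply, Pi.single_apply] using e

variable {M q : ℕ}

theorem apply_genVec [NeZero M] (s : Fin chevE7.nroots) :
    iota chevE7 (ZMod M) (genVec M q) s = (((M / twistOrder q : ℕ) : ℤ) * rootVal s.val q : ℤ) := by
  rw [genVec, map_smul, Pi.smul_apply, iota_fixVec, smul_eq_mul, Int.cast_mul, Int.cast_natCast]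

theorem dvd_of_scaled [NeZero M] (hN : twistOrder q ∣ M) {v : ℤ}
    (h : ((((M / twistOrder q : ℕ) : ℤ) * v : ℤ) : ZMod M) = 0) : (twistOrder q : ℤ) ∣ v := by
  rw [ZMod.intCast_zmod_eq_zero_iff_dvd] at h
  obtain ⟨c, hc⟩ := hN
  have hN0 := twistOrder_pos ⟨c, hc⟩
  have hc0 : c ≠ 0 := fun e => NeZero.ne M (by rw [hc, e, mul_zero])
  rw [hc, Nat.mul_div_cancel_left _ hN0, Nat.cast_mul, mul_comm (twistOrder q : ℤ)] at h
  exact Int.dvd_of_mul_dvd_mul_left (by exact_mod_cast hc0) h

theorem genVec_ne_zero [NeZero M] (hq : 2 ≤ q) (hN : twistOrder q ∣ M) (s : Fin chevE7.nroots) :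
    iota chevE7 (ZMod M) (genVec M q) s ≠ 0 := by
  intro h
  rw [apply_genVec] at h
  have hd := dvd_of_scaled hN h
  rcases (show q = 2 ∨ 3 ≤ q by omega) with rfl | h3
  · have h2 := two_ok.2.1
    simp only [List.all_eq_true, List.mem_range, Bool.not_eq_true', decide_eq_false_iff_not] at h2
    rw [rootVal_eq] at hd
    exact h2 s.val s.isLt (Int.emod_eq_zero_of_dvd hd)
  · exact (rootVal_sep h3).1 s hd

theorem eq_one_of_fixes [NeZero M] (hq : 2 ≤ q) (hN : twistOrder q ∣ M) {x : Equiv.Perm (Fin chevE7.nroots)}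
    (hx : x ∈ weyl checked_E7 (Finset.range chevE7.rank))
    (hfix : act x (iota chevE7 (ZMod M) (genVec M q)) = iota chevE7 (ZMod M) (genVec M q)) : x = 1 := by
  have hval : ∀ s, (twistOrder q : ℤ) ∣ rootVal (x⁻¹ s).val q - rootVal s.val q := by
    intro s
    have e := congrFun hfix s
    rw [act_apply, apply_genVec, apply_genVec, ← sub_eq_zero, ← Int.cast_sub, ← mul_sub] at e
    exact dvd_of_scaled hN e
  suffices h : ∀ i (hi : i < chevE7.rank), x⁻¹ (srootF checked_E7 hi) = srootF checked_E7 hi by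
    refine inv_eq_one.1 (hh7.eq_one_of_all_asc (inv_mem hx) fun j hj => ?_)
    rw [checked_E7.asc_iff hj]
    have := h j hj
    rw [show hh7.toChecked.sroot hj = srootF checked_E7 hj from rfl, this]
    exact checked_E7.sroot_pos hj
  rcases (show q = 2 ∨ 3 ≤ q by omega) with rfl | h3
  · set y : ℕ → ℕ := fun i => if hi : i < chevE7.rank then (x⁻¹ (srootF checked_E7 hi)).val else 0 with hy
    have hmem : ∀ i < 7, y i ∈ fibre.getD i [] := by
      intro i hi
      have hi' : i < chevE7.rank := hi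
      have h1 := two_ok.1
      simp only [List.all_eq_true, List.mem_range, Bool.or_eq_true, Bool.not_eq_true', decide_eq_false_iff_not,
        List.contains_iff_mem] at h1
      simp only [hy, dif_pos hi']
      refine (h1 i hi _ (x⁻¹ (srootF checked_E7 hi')).isLt).resolve_left (not_not.2 ?_)
      have h2 := hval (srootF checked_E7 hi')
      rw [rootVal_eq, rootVal_eq] at h2
      exact Int.emod_eq_zero_of_dvd h2
    have m0 := hmem 0 (by norm_num)
    have m1 := hmem 1 (by norm_num)
    have m2 := hmem 2 (by norm_num)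
    have m3 := hmem 3 (by norm_num)
    have m4 := hmem 4 (by norm_num)
    have m5 := hmem 5 (by norm_num)
    have m6 := hmem 6 (by norm_num)
    simp only [fibre, List.getD_cons_zero, List.getD_cons_succ, List.mem_singleton] at m0 m1 m2 m3 m4 m5 m6
    have himg : ∀ i < 7, ([y 0, y 1, 73, 69, y 4, 64, 63] : List ℕ).getD i 0 = y i := by
      intro i hi
      interval_cases i <;> simp [m2, m3, m5, m6]
    have hc := cand_ok
    simp only [List.all_eq_true, Bool.or_eq_true, List.mem_range, List.any_eq_true, Bool.not_eq_true',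
      decide_eq_true_eq] at hc
    rcases hc (y 0) m0 (y 1) m1 (y 4) m4 with hid | ⟨e, he, hw⟩
    · intro i hi
      refine Fin.ext ?_
      have h1 := Nat.eq_of_beq_eq_true (hid i hi)
      rw [himg i hi] at h1
      simpa [hy, hi, srootF] using h1
    · exfalso
      have h1 := two_ok.2.2
      simp only [List.all_eq_true, List.mem_range, decide_eq_true_eq] at h1
      have hlt : e.1 < 7 ∧ e.2.1 < 7 ∧ e.2.2 < 126 := by
        simp only [adjSum, List.mem_cons, List.not_mem_nil, or_false] at he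
        rcases he with rfl | rfl | rfl | rfl | rfl | rfl <;> norm_num
      have ha : e.1 < chevE7.rank := hlt.1
      have hb : e.2.1 < chevE7.rank := hlt.2.1
      set w := x⁻¹ (⟨e.2.2, hlt.2.2⟩ : Fin chevE7.nroots)
      have hw' := hw w.val w.isLt
      rw [List.all_eq_false] at hw'
      obtain ⟨l, hl, hne⟩ := hw'
      rw [List.mem_range] at hl
      refine hne (decide_eq_true ?_)
      rw [himg _ hlt.1, himg _ hlt.2.1]
      simp only [hy, dif_pos ha, dif_pos hb]
      exact cartan_act hx (a := srootF checked_E7 ha) (b := srootF checked_E7 hb) (fun j => h1 e he j.val j.isLt)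
        ⟨l, hl⟩
  · exact fun i hi => (rootVal_sep h3).2 _ _ (hval _)

end Cfsg.Agent.Lib.E7Twist
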