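import Cfsg.Agent.Lib.E7Twist.Regular
import Cfsg.Agent.Lib.E7Twist.Lift
import Cfsg.Agent.Lib.E7Twist.Lang

/-!
A cyclic self-centralizing subgroup of order `(q⁴ - q² + 1)(q³ + 1) / (2, q - 1)` in the group of type E7.
-/

set_option autoImplicit false

namespace Cfsg.Agent.Lib.E7Twist

open Cfsg.Lie Cfsg.Agent.Lib.Chev Cfsg.Agent.Lib.ChevField Cfsg.Agent.Lib.H59.Homocyclic
open scoped Matrix

theorem dvd_order {q : ℕ} (hq : 2 ≤ q) : twistOrder q ∣ q ^ 12 - 1 := by
  rw [← Int.natCast_dvd_natCast, Nat.cast_sub (Nat.one_le_pow _ _ (by omega)), Nat.cast_pow, Nat.cast_one]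
  refine ⟨((q : ℤ) ^ 3 - 1) * ((q : ℤ) ^ 2 + 1), ?_⟩
  rw [twistOrder, Nat.cast_mul, Nat.cast_add, Nat.cast_sub (Nat.pow_le_pow_right (by omega) (by norm_num))]
  push_cast
  ring

set_option maxHeartbeats 800000 in
theorem selfCentralizing {F : Type*} [Field F] [Fintype F] :
    ∃ H : Subgroup ↥(chevE7.group F), IsCyclic ↥H ∧
      Nat.card ↥H = twistOrder (Fintype.card F) / Nat.gcd 2 (Fintype.card F - 1) ∧
      Subgroup.centralizer (H : Set ↥(chevE7.group F)) = H := by
  classical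
  have hh : Rooted chevE7 E7.cert := ⟨checked_E7, descent_E7⟩
  set q := Fintype.card F with hq
  have hq2 : 2 ≤ q := Fintype.one_lt_card
  -- the extension fields
  obtain ⟨p, hpc⟩ := CharP.exists F
  haveI := hpc
  haveI : Fact p.Prime := ⟨CharP.char_is_prime F p⟩
  let K := FiniteField.Extension F p 12
  letI : Fintype K := Fintype.ofFinite K
  have hq3 : 2 ^ 3 ≤ q ^ 3 := Nat.pow_le_pow_left hq2 3
  haveI : NeZero (12 * (q ^ 3 - 1)) := ⟨by omega⟩
  let L := FiniteField.Extension F p (12 * (q ^ 3 - 1))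
  letI : Fintype L := Fintype.ofFinite L
  have hK : Fintype.card K = q ^ 12 := by
    rw [Fintype.card_eq_nat_card, FiniteField.natCard_extension, hq, Fintype.card_eq_nat_card]
  have hL : Fintype.card L = (q ^ 12) ^ (q ^ 3 - 1) := by
    rw [Fintype.card_eq_nat_card, FiniteField.natCard_extension, ← pow_mul, hq, Fintype.card_eq_nat_card]
  obtain ⟨ιA⟩ : Nonempty (K →ₐ[F] L) := FiniteField.nonempty_algHom_of_finrank_dvd
    (by rw [FiniteField.finrank_extension, FiniteField.finrank_extension]; exact dvd_mul_right _ _)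
  let f : F →+* L := algebraMap F L
  let σK : K →+* K := (FiniteField.frobeniusAlgHom F K : K →ₐ[F] K).toRingHom
  let σ : L →+* L := (FiniteField.frobeniusAlgHom F L : L →ₐ[F] L).toRingHom
  have hσ : ∀ x, σ x = x ^ q := fun x => rfl
  have hσf : ∀ a, σ (f a) = f a := fun a => (FiniteField.frobeniusAlgHom F L).commutes a
  have hfix : ∀ x, σ x = x → ∃ y, f y = x := fun x hx => exists_eq_of_pow_eq f x ((hσ x).symm.trans hx)
  obtain ⟨g, hg, t', ht', hhel⟩ := exists_lang (F := F) (K := K) (L := L) hK hL (algebraMap F K) σK (fun x => rfl)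
    (fun a => (FiniteField.frobeniusAlgHom F K).commutes a) ιA.toRingHom σ hσ
  set M := Fintype.card L - 1 with hM
  have hM0 : 0 < M := by have : 1 < Fintype.card L := Fintype.one_lt_card; omega
  haveI : NeZero M := ⟨hM0.ne'⟩
  have hNM : twistOrder q ∣ M := by
    refine (dvd_order hq2).trans ?_
    rw [hM, hL]
    simpa using Nat.sub_dvd_pow_sub_pow (q ^ 12) 1 (q ^ 3 - 1)
  obtain ⟨z, hz⟩ := exists_zmodHom (K := L) (m := M) (by rw [Nat.card_eq_fintype_card]) hM0
  have hzs : Function.Surjective z := by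
    refine ((Nat.bijective_iff_injective_and_card z).2 ⟨hz, ?_⟩).2
    rw [Nat.card_congr Multiplicative.toAdd, Nat.card_zmod, Nat.card_eq_fintype_card, Fintype.card_units]
  have hdiag : ∀ t ∈ chevE7.diagonalSubgroup L,
      ∃ lam, tor z (Multiplicative.ofAdd (iota chevE7 (ZMod M) lam)) = t := by
    intro t ht
    rw [hh.diagonalSubgroup_eq] at ht
    obtain ⟨c, rfl⟩ := ht
    choose b hb using fun i : Fin chevE7.rank => hzs (c i.val)
    refine ⟨fun i => (b i).toAdd, ?_⟩
    rw [tor_iota]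
    exact torusHom_congr fun i hi => by rw [zcoord, dif_pos hi, ofAdd_toAdd, hb]
  let Φ : ↥(chevE7.group F) →* GL chevE7.Idx L :=
    (MulAut.conj g).toMonoidHom.comp ((glMap chevE7 f).comp (chevE7.group F).subtype)
  have hΦ : ∀ x, Φ x = g * glMap chevE7 f x * g⁻¹ := fun x => rfl
  have hΦinj : Function.Injective Φ := fun x y e => by
    rw [hΦ, hΦ] at e
    exact Subtype.ext (glMap_injective f (mul_left_cancel (mul_right_cancel e)))
  have hΦG : ∀ x, Φ x ∈ chevE7.group L := fun x =>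
    mul_mem (mul_mem hg (glMap_group_le f (Subgroup.mem_map_of_mem _ x.2))) (inv_mem hg)
  set a := iota chevE7 (ZMod M) (genVec M q) with ha
  let γ : GL chevE7.Idx L := tor z (Multiplicative.ofAdd a)
  have hγpow : ∀ n : ℕ, tor z (Multiplicative.ofAdd (iota chevE7 (ZMod M) (n • genVec M q))) = γ ^ n := fun n => by
    rw [map_nsmul, ofAdd_nsmul, map_pow]
  have hγord : orderOf γ = twistOrder q / Nat.gcd 2 (q - 1) := by
    refine Nat.dvd_antisymm ?_ ?_
    · rw [orderOf_dvd_iff_pow_eq_one, ← hγpow, (iota_nsmul_genVec (by omega) hNM _).2 dvd_rfl, ofAdd_zero, map_one]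
    · refine (iota_nsmul_genVec (by omega) hNM _).1 ?_
      have h1 := pow_orderOf_eq_one γ
      rw [← hγpow, ← map_one (tor (D := chevE7) z)] at h1
      exact Multiplicative.ofAdd.injective ((tor_injective hz h1).trans ofAdd_zero.symm)
  have haCW : a ∈ CW chevE7 (ZMod M) := ⟨_, rfl⟩
  have hγT : γ ∈ chevE7.diagonalSubgroup L := tor_mem hh.toChecked hh haCW
  let H : Subgroup ↥(chevE7.group F) := (chevE7.diagonalSubgroup L).comap Φ
  have hH : ∀ x, x ∈ H ↔ Φ x ∈ chevE7.diagonalSubgroup L := fun x => Iff.rfl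
  have hmap : H.map Φ = Subgroup.zpowers γ := by
    refine le_antisymm ?_ ?_
    · rintro _ ⟨x, hx, rfl⟩
      obtain ⟨lam, hlam⟩ := hdiag _ ((hH x).1 hx)
      obtain ⟨lam', hl', he⟩ := Cover.exists_twisted hz hzs f σ q hσ hσf hdiag hg ht' hhel x.2 hlam.symm
      obtain ⟨n, rfl⟩ := exists_nsmul_genVec hNM hl'
      rw [← hlam, ← he, hγpow]
      exact pow_mem (Subgroup.mem_zpowers γ) n
    · rw [Subgroup.zpowers_le]
      obtain ⟨x, hx, ex⟩ :=
        Cover.mem_image_of_twistFix hz hzs f σ q hσ hσf hdiag hg ht' hhel hfix (genVec_mem hNM)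
      have e : Φ ⟨x, hx⟩ = γ := by rw [hΦ, ex]; group; rfl
      exact ⟨⟨x, hx⟩, (hH _).2 (e.symm ▸ hγT), e⟩
  let eH : ↥H ≃* ↥(Subgroup.zpowers γ) :=
    (Subgroup.equivMapOfInjective H Φ hΦinj).trans (MulEquiv.subgroupCongr hmap)
  refine ⟨H, ?_, ?_, ?_⟩
  · exact isCyclic_of_surjective eH.symm eH.symm.surjective
  · rw [Nat.card_congr eH.toEquiv, Nat.card_zpowers, hγord]
  · refine le_antisymm (fun x hx => ?_) fun x hx => ?_
    · obtain ⟨x0, h0, e0⟩ : γ ∈ H.map Φ := hmap ▸ Subgroup.mem_zpowers γ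
      have hcomm := congrArg Φ (Subgroup.mem_centralizer_iff.1 hx x0 h0)
      rw [map_mul, map_mul, e0] at hcomm
      have hnv := genVec_ne_zero hq2 hNM
      obtain ⟨L₂, t₂, hL₂, ht₂, hx2, hw2⟩ := monomial_of_conj hh hz haCW haCW hnv hnv (hΦG x) hcomm.symm
      have hone := eq_one_of_fixes hq2 hNM (hh.toChecked.mem_weyl_of_word hL₂) hw2
      have hd := hh.diag_of_wperm_eq (F := L) (L := []) (L' := L₂) (by simp [IsWord]) hL₂ (by rw [hone, wperm_nil])
      rw [show nProd hh.toChecked L ([] : List ℕ) = 1 from by simp [nProd], inv_one, one_mul] at hd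
      exact (hH x).2 (hx2 ▸ mul_mem ht₂ hd)
    · refine Subgroup.mem_centralizer_iff.2 fun y hy => hΦinj ?_
      rw [map_mul, map_mul, hh.diagonal_commute ((hH y).1 hy) ((hH x).1 hx)]

end Cfsg.Agent.Lib.E7Twist
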