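import Cfsg.Agent.Lib.E7Twist.Embed
import Cfsg.Agent.Lib.Chev.SL2Hom

/-!
Changing the Frobenius quotient of an element of the group of type E7 by the reflection in a root whose orbit under
the product of six fundamental reflections has length three.
-/

set_option autoImplicit false

namespace Cfsg.Agent.Lib.E7Twist

open Cfsg.Lie Cfsg.Agent.Lib.Chev Cfsg.Agent.Lib.ChevField RankOneData
open scoped Matrix MatrixGroups

variable {L : Type*} [Field L]

theorem hh7 : Rooted chevE7 E7.cert := ⟨checked_E7, descent_E7⟩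

/-- A word sending a fundamental root to the root `89`. -/
def betaWord : List ℕ := [6, 5, 3, 4, 2, 3]

/-- The word of the reflection in the root `89`. -/
def reflWord : List ℕ := [6, 5, 3, 4, 2, 3, 1, 3, 2, 4, 3, 5, 6]

/-- The word of the twisting element. -/
def twistWord : List ℕ := [0, 1, 2, 3, 4, 5, 6, 5, 3, 4, 2, 3, 1, 3, 2, 4, 3, 5, 6]

theorem orbit_ok : Chev.perm E7.cert [5, 4, 3, 2, 1, 0] 89 = 114 ∧ Chev.perm E7.cert [5, 4, 3, 2, 1, 0] 114 = 107 ∧
    Chev.perm E7.cert [5, 4, 3, 2, 1, 0] 107 = 89 ∧ Chev.perm E7.cert betaWord (chevE7.simple 1) = 89 := by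
  decide +kernel

theorem orbit_comm : ([89, 114, 107].all fun a => [89, 114, 107].all fun b => Nat.beq a b ||
    ((cTerms E7.cert a b).isEmpty && (cTerms E7.cert (ng chevE7 a) b).isEmpty &&
      (cTerms E7.cert a (ng chevE7 b)).isEmpty && (cTerms E7.cert (ng chevE7 a) (ng chevE7 b)).isEmpty &&
      !Nat.beq b (ng chevE7 a))) = true := by decide +kernel

/-- A root element. -/
noncomputable def xr (L : Type*) [Field L] (r : ℕ) (u : L) : GL chevE7.Idx L :=
  if hr : r < chevE7.nroots then xGL checked_E7 L hr u else 1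

theorem xr_eq {r : ℕ} (hr : r < chevE7.nroots) (u : L) : xr L r u = xGL checked_E7 L hr u := dif_pos hr

theorem xr_mem {r : ℕ} (hr : r < chevE7.nroots) (u : L) : xr L r u ∈ chevE7.group L := by
  rw [xr_eq hr]
  refine Subgroup.subset_closure ⟨⟨r, hr⟩, u, ?_⟩
  rw [coe_xGL, ChevalleyDatum.x, dif_pos hr]

theorem xr_add {r : ℕ} (hr : r < chevE7.nroots) (u v : L) : xr L r u * xr L r v = xr L r (u + v) := by
  rw [xr_eq hr, xr_eq hr, xr_eq hr]; exact checked_E7.xGL_add hr u v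

theorem glMap_xr {L' : Type*} [Field L'] (σ : L →+* L') {r : ℕ} (hr : r < chevE7.nroots) (u : L) :
    glMap chevE7 σ (xr L r u) = xr L' r (σ u) := by
  rw [xr_eq hr, xr_eq hr, glMap_xGL]

theorem conj_nS {i r : ℕ} (hi : i < 7) (hr : r < 126) (u : L) :
    (nS checked_E7 L i)⁻¹ * xr L r u * nS checked_E7 L i =
      xr L (refl E7.cert i r) ((eta E7.cert i (refl E7.cert i r) : L) * u) := by
  have hi' : i < chevE7.rank := hi
  have hr0 : r < chevE7.nroots := hr
  have hr' : refl E7.cert i r < chevE7.nroots := checked_E7.refl_lt hi' hr0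
  rw [xr_eq hr0, xr_eq hr', mul_assoc, inv_mul_eq_iff_eq_mul, checked_E7.nS_conj_x hi' hr']
  refine congrArg (· * nS checked_E7 L i) (Units.ext ?_)
  rw [coe_xGL, coe_xGL, checked_E7.refl_refl hi' hr0, ← mul_assoc, etaF_sq, one_mul]

theorem conj_nProd : ∀ {W : List ℕ}, (∀ i ∈ W, i < 7) → ∀ {r : ℕ}, r < 126 → ∃ e : L, e * e = 1 ∧
    Chev.perm E7.cert W.reverse r < 126 ∧
    Chev.perm E7.cert W.reverse (ng chevE7 r) = ng chevE7 (Chev.perm E7.cert W.reverse r) ∧
    ∀ u, (nProd checked_E7 L W)⁻¹ * xr L r u * nProd checked_E7 L W = xr L (Chev.perm E7.cert W.reverse r) (e * u) ∧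
      (nProd checked_E7 L W)⁻¹ * xr L (ng chevE7 r) u * nProd checked_E7 L W =
        xr L (ng chevE7 (Chev.perm E7.cert W.reverse r)) (e * u)
  | [], _, r, hr => ⟨1, one_mul 1, by simpa [Chev.perm] using hr, by simp [Chev.perm],
      fun u => ⟨by simp [nProd, Chev.perm], by simp [nProd, Chev.perm]⟩⟩
  | i :: W, hW, r, hr => by
    have hi : i < 7 := hW i List.mem_cons_self
    have hi' : i < chevE7.rank := hi
    have hr0 : r < chevE7.nroots := hr
    have hm : ng chevE7 r < 126 := Checked.ng_lt hr0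
    have hr' : refl E7.cert i r < chevE7.nroots := checked_E7.refl_lt hi' hr0
    have hr1 : refl E7.cert i r < 126 := hr'
    obtain ⟨e, he, hlt, hng, hconj⟩ := conj_nProd (W := W) (fun j hj => hW j (List.mem_cons_of_mem _ hj)) hr1
    have hp : ∀ s, Chev.perm E7.cert (i :: W).reverse s = Chev.perm E7.cert W.reverse (refl E7.cert i s) := fun s => by
      simp [Chev.perm, List.foldr_append]
    refine ⟨e * (eta E7.cert i (refl E7.cert i r) : L), ?_, ?_, ?_, fun u => ?_⟩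
    · calc _ = (e * e) * ((eta E7.cert i (refl E7.cert i r) : L) * (eta E7.cert i (refl E7.cert i r) : L)) := by ring
        _ = 1 := by rw [he, etaF_sq, one_mul]
    · rw [hp]; exact hlt
    · rw [hp, hp, checked_E7.refl_ng hi' hr0, hng]
    · have hc : ∀ s, (nProd checked_E7 L (i :: W))⁻¹ * s * nProd checked_E7 L (i :: W) =
          (nProd checked_E7 L W)⁻¹ * ((nS checked_E7 L i)⁻¹ * s * nS checked_E7 L i) * nProd checked_E7 L W := by
        intro s; rw [nProd_cons]; group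
      rw [hp, hc, hc, conj_nS hi hr, conj_nS hi hm, checked_E7.refl_ng hi' hr0, checked_E7.eta_ng hi' hr',
        (hconj _).1, (hconj _).2]
      exact ⟨by rw [mul_assoc], by rw [mul_assoc]⟩

/-- The twisted Frobenius map. -/
def frob (σ : L →+* L) (hel : GL chevE7.Idx L) : GL chevE7.Idx L →* GL chevE7.Idx L :=
  (MulAut.conj hel⁻¹).toMonoidHom.comp (glMap chevE7 σ)

theorem frob_apply (σ : L →+* L) (hel y : GL chevE7.Idx L) : frob σ hel y = hel⁻¹ * glMap chevE7 σ y * hel := by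
  simp [frob]

theorem frob_root (σ : L →+* L) (q P : ℕ) (hσ : ∀ x, σ x = x ^ q) (hP : Even P ∨ (-1 : L) = 1)
    (c : ℕ → Lˣ) (hc : ∀ i, c i ^ P = 1) {r : ℕ} (hr : r < 126) :
    ∃ k : L, k ^ P = 1 ∧
      ∀ u, frob σ (torusHom chevE7 L c * nProd checked_E7 L [0, 1, 2, 3, 4, 5]) (xr L r u) =
          xr L (Chev.perm E7.cert [5, 4, 3, 2, 1, 0] r) (k * u ^ q) ∧
        frob σ (torusHom chevE7 L c * nProd checked_E7 L [0, 1, 2, 3, 4, 5]) (xr L (ng chevE7 r) u) =
          xr L (ng chevE7 (Chev.perm E7.cert [5, 4, 3, 2, 1, 0] r)) (k⁻¹ * u ^ q) := by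
  have hr0 : r < chevE7.nroots := hr
  have hm0 : ng chevE7 r < chevE7.nroots := Checked.ng_lt hr0
  obtain ⟨e, he, -, -, hconj⟩ := conj_nProd (L := L) (W := [0, 1, 2, 3, 4, 5]) (by decide) hr
  set χ := torusFun chevE7 c r with hχ
  have hχng : torusFun chevE7 c (ng chevE7 r) = χ⁻¹ := by
    rw [hχ, torusFun, torusFun, ← Finset.prod_inv_distrib]
    refine Finset.prod_congr rfl fun i hi => ?_
    rw [checked_E7.cartan_ng (Finset.mem_range.1 hi) hr0, zpow_neg]
  have hχP : ((χ⁻¹ : Lˣ) : L) ^ P = 1 := by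
    rw [← Units.val_pow_eq_pow_val, inv_pow, hχ, torusFun, ← Finset.prod_pow]
    rw [Finset.prod_eq_one fun i _ => ?_, inv_one, Units.val_one]
    rw [← zpow_natCast, ← zpow_mul, mul_comm, zpow_mul, zpow_natCast, hc, one_zpow]
  have heP : e ^ P = 1 := by
    rcases mul_self_eq_one_iff.1 he with rfl | rfl
    · exact one_pow P
    · rcases hP with hP | hP
      · exact hP.neg_one_pow
      · rw [hP, one_pow]
  have hei : e⁻¹ = e := inv_eq_of_mul_eq_one_left he
  refine ⟨e * ((χ⁻¹ : Lˣ) : L), by rw [mul_pow, heP, hχP, one_mul], fun u => ?_⟩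
  have hstep : ∀ s, ∀ hs : s < chevE7.nroots, ∀ v : L,
      (torusHom chevE7 L c)⁻¹ * xr L s v * torusHom chevE7 L c = xr L s (((torusFun chevE7 c s)⁻¹ : Lˣ) * v) := by
    intro s hs v
    rw [xr_eq hs, xr_eq hs, mul_assoc, inv_mul_eq_iff_eq_mul]
    have := checked_E7.conj_x (c := c) hs (((torusFun chevE7 c s)⁻¹ : Lˣ) * v : L)
    rw [← mul_assoc (torusFun chevE7 c s : L), Units.mul_inv, one_mul] at this
    rw [← this, inv_mul_cancel_right]
  constructor <;> rw [frob_apply]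
  · rw [glMap_xr σ hr0, hσ]
    calc _ = (nProd checked_E7 L [0, 1, 2, 3, 4, 5])⁻¹ *
          ((torusHom chevE7 L c)⁻¹ * xr L r (u ^ q) * torusHom chevE7 L c) * nProd checked_E7 L [0, 1, 2, 3, 4, 5] := by
            group
      _ = _ := by rw [hstep r hr0, (hconj _).1, ← hχ]; congr 1; ring
  · rw [glMap_xr σ hm0, hσ]
    calc _ = (nProd checked_E7 L [0, 1, 2, 3, 4, 5])⁻¹ *
          ((torusHom chevE7 L c)⁻¹ * xr L (ng chevE7 r) (u ^ q) * torusHom chevE7 L c) *
            nProd checked_E7 L [0, 1, 2, 3, 4, 5] := by group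
      _ = _ := by
        rw [hstep _ hm0, (hconj _).2, hχng, inv_inv, mul_inv, hei, Units.val_inv_eq_inv_val, inv_inv]
        congr 1; ring

theorem hom_ext {G : Type*} [Group G] {ψ ψ' : SL(2, L) →* G} (h1 : ∀ t, ψ (upper t) = ψ' (upper t))
    (h2 : ∀ t, ψ (lower t) = ψ' (lower t)) : ψ = ψ' := by
  have e : (wElt : SL(2, L)) = upper 1 * lower (-1) * upper 1 := by
    refine sl_ext ?_ ?_ ?_ ?_ <;> simp [mul_entry, upper_entries, lower_entries, wElt_entries]
  refine MonoidHom.eq_of_eqOn_dense (closure_gens (F := L)) ?_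
  rintro g (⟨t, rfl⟩ | hg)
  · exact h1 t
  · rw [Set.mem_singleton_iff] at hg
    rw [hg, e, map_mul, map_mul, map_mul, map_mul, h1, h2]

/-- Scaling of the off-diagonal entries of one matrix. -/
def scaleFun (k : L) (hk : k ≠ 0) (g : SL(2, L)) : SL(2, L) :=
  ⟨!![g 0 0, k * g 0 1; k⁻¹ * g 1 0, g 1 1], by
    rw [Matrix.det_fin_two_of]
    linear_combination det_eq g - g 0 1 * g 1 0 * mul_inv_cancel₀ hk⟩

theorem scaleFun_entries (k : L) (hk : k ≠ 0) (g : SL(2, L)) :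
    scaleFun k hk g 0 0 = g 0 0 ∧ scaleFun k hk g 0 1 = k * g 0 1 ∧ scaleFun k hk g 1 0 = k⁻¹ * g 1 0 ∧
      scaleFun k hk g 1 1 = g 1 1 := ⟨rfl, rfl, rfl, rfl⟩

/-- Scaling of the off-diagonal entries. -/
def scaleHom (k : L) (hk : k ≠ 0) : SL(2, L) →* SL(2, L) :=
  MonoidHom.mk' (scaleFun k hk) (fun g h => by
    refine sl_ext ?_ ?_ ?_ ?_ <;> simp only [mul_entry, scaleFun_entries]
    · linear_combination -(g 0 1 * h 1 0) * mul_inv_cancel₀ hk
    · ring
    · ring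
    · linear_combination -(g 1 0 * h 0 1) * mul_inv_cancel₀ hk)

theorem scaleHom_entries (k : L) (hk : k ≠ 0) (g : SL(2, L)) :
    scaleHom k hk g 0 0 = g 0 0 ∧ scaleHom k hk g 0 1 = k * g 0 1 ∧ scaleHom k hk g 1 0 = k⁻¹ * g 1 0 ∧
      scaleHom k hk g 1 1 = g 1 1 := ⟨rfl, rfl, rfl, rfl⟩

/-- A diagonal matrix. -/
def diagEl (e : L) (he : e ≠ 0) : SL(2, L) :=
  ⟨!![e, 0; 0, e⁻¹], by rw [Matrix.det_fin_two_of, mul_zero, sub_zero, mul_inv_cancel₀ he]⟩

theorem exists_solution (Q : ℕ) (hQ : 0 < Q) (σQ : L →+* L) (hσQ : ∀ x, σQ x = x ^ Q) {k θ : L}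
    (hk : k ≠ 0) (hθ : θ ^ (Q * Q) = θ * k * k ^ Q) (hne : θ ^ Q ≠ θ * k) :
    ∃ (M : SL(2, L)) (e : L) (he : e ≠ 0),
      scaleHom k hk (Matrix.SpecialLinearGroup.map σQ M) * M⁻¹ = diagEl e he * wElt := by
  have hd : θ ^ Q / k - θ ≠ 0 := sub_ne_zero.2 fun e => hne ((div_eq_iff hk).1 e)
  set s := (θ ^ Q / k - θ)⁻¹ with hs
  have hs0 : s ≠ 0 := inv_ne_zero hd
  let N : SL(2, L) := ⟨!![1, s; θ, s * θ ^ Q / k], by
    rw [Matrix.det_fin_two_of, one_mul, show s * θ ^ Q / k - s * θ = s * (θ ^ Q / k - θ) by ring, hs,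
      inv_mul_cancel₀ hd]⟩
  set S := scaleHom k hk (Matrix.SpecialLinearGroup.map σQ N) with hS
  have s00 : S 0 0 = 1 := by
    rw [hS, (scaleHom_entries k hk _).1]; show σQ 1 = 1; exact map_one _
  have s01 : S 0 1 = k * s ^ Q := by rw [hS, (scaleHom_entries k hk _).2.1, ← hσQ]; rfl
  have s10 : S 1 0 = k⁻¹ * θ ^ Q := by rw [hS, (scaleHom_entries k hk _).2.2.1, ← hσQ]; rfl
  have s11 : S 1 1 = (s * θ ^ Q / k) ^ Q := by rw [hS, (scaleHom_entries k hk _).2.2.2, ← hσQ]; rfl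
  have hcol : θ * (k * s ^ Q) = (s * θ ^ Q / k) ^ Q := by
    rw [div_pow, mul_pow, ← pow_mul, hθ, eq_div_iff (pow_ne_zero _ hk)]
    ring
  have hsQ : k * s ^ Q = -s := by
    have hdet := det_eq S
    rw [s00, s01, s10, s11, ← hcol] at hdet
    have h1 : k * s ^ Q * (θ ^ Q / k - θ) = -1 := by
      rw [div_eq_mul_inv]
      linear_combination -hdet
    calc k * s ^ Q = k * s ^ Q * (θ ^ Q / k - θ) * s := by
          rw [mul_assoc, hs, mul_inv_cancel₀ hd, mul_one]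
      _ = -s := by rw [h1]; ring
  refine ⟨N⁻¹, s, hs0, ?_⟩
  have key : S * (diagEl s hs0 * wElt) = N := by
    refine sl_ext ?_ ?_ ?_ ?_ <;> rw [mul_entry, mul_entry, mul_entry]
    · show S 0 0 * (s * 0 + 0 * -1) + S 0 1 * (0 * 0 + s⁻¹ * -1) = 1
      rw [s01, hsQ]; field_simp; ring
    · show S 0 0 * (s * 1 + 0 * 0) + S 0 1 * (0 * 1 + s⁻¹ * 0) = s
      rw [s00]; ring
    · show S 1 0 * (s * 0 + 0 * -1) + S 1 1 * (0 * 0 + s⁻¹ * -1) = θ
      rw [s11, ← hcol, hsQ]; field_simp; ring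
    · show S 1 0 * (s * 1 + 0 * 0) + S 1 1 * (0 * 1 + s⁻¹ * 0) = s * θ ^ Q / k
      rw [s10]; field_simp; ring
  rw [inv_inv, map_inv, map_inv, inv_mul_eq_iff_eq_mul, key]

end Cfsg.Agent.Lib.E7Twist
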